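/-
Involutions of orthogonal groups in characteristic two: normal forms and conjugacy.
An involution is written `1 + N`.
-/
import Cfsg.Agent.Lib.Orthogonal.Witt
import Cfsg.Agent.Lib.LinearBlock.SpInvolutionClasses
import Cfsg.Agent.Lib.LinearBlock.SpOrthChar2

set_option autoImplicit false

universe u v

namespace Cfsg.Agent.OrthInv2

open QuadraticMap Module Cfsg.Agent.Orth

variable {F : Type u} [Field F] [CharP F 2] {V : Type v} [AddCommGroup V] [Module F V]
  {Q : QuadraticForm F V}

/-- The part `t - 1` of an involution `t` of the orthogonal group. -/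
structure IsInv (Q : QuadraticForm F V) (N : V →ₗ[F] V) : Prop where
  sq : ∀ v, N (N v) = 0
  val : ∀ v, Q (N v) = polar Q v (N v)

/-- A family of representatives, pairwise orthogonal, with given Gram matrix and values. -/
structure Frame (Q : QuadraticForm F V) (N : V →ₗ[F] V) {κ : Type} (G : Matrix κ κ F) (e : κ → F)
    (x : κ → V) : Prop where
  gram : ∀ i j, polar Q (x i) (N (x j)) = G i j
  orth : ∀ i j, polar Q (x i) (x j) = 0
  value : ∀ i, Q (x i) = e i

theorem polar_isAlt (Q : QuadraticForm F V) : (polarBilin Q).IsAlt := fun x => by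
  rw [polarBilin_apply_apply, b_self, CharTwo.two_eq_zero, zero_mul]

theorem q_add_self (Q : QuadraticForm F V) (x : V) : Q x + Q x = 0 := CharTwo.add_self_eq_zero _

variable {N : V →ₗ[F] V}

theorem IsInv.polar_range (hN : IsInv Q N) (v w : V) : polar Q (N v) (N w) = 0 := by
  have h := hN.val (v + N w)
  rw [map_add, hN.sq, add_zero, b_add_left, ← hN.val v] at h
  rw [b_comm]
  exact left_eq_add.1 h

theorem IsInv.adj (hN : IsInv Q N) (v w : V) : polar Q (N v) w = polar Q v (N w) := by
  have h := hN.val (v + w)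
  rw [map_add, q_add, b_add_left, b_add_right, b_add_right, hN.polar_range, hN.val, hN.val] at h
  have h0 : polar Q v (N w) + polar Q w (N v) = 0 := by linear_combination -h
  rw [b_comm (N v) w, CharTwo.add_eq_zero.1 h0]

theorem IsInv.isNil (hN : IsInv Q N) : SpInv.IsNil (polarBilin Q) N := ⟨hN.sq, hN.adj⟩

theorem IsInv.gram_diag (hN : IsInv Q N) {κ : Type} {G : Matrix κ κ F} {e : κ → F} {x : κ → V}
    (hx : Frame Q N G e x) (i : κ) : Q (N (x i)) = G i i := by rw [hN.val, hx.gram]

theorem IsInv.q_sum (hN : IsInv Q N) {κ : Type} (s : Finset κ) (c : κ → F) (z : κ → V) :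
    Q (N (∑ k ∈ s, c k • z k)) = ∑ k ∈ s, c k * c k * Q (N (z k)) := by
  classical
  induction s using Finset.induction_on with
  | empty => simp
  | insert a s ha ih =>
    rw [Finset.sum_insert ha, Finset.sum_insert ha, map_add, q_add, hN.polar_range, add_zero, ih, map_smul, q_smul]

theorem ext_basis {W : Type*} [AddCommGroup W] [Module F W] {κ : Type*} (b : Basis κ F W)
    {Q₁ Q₂ : QuadraticForm F W} (h1 : ∀ i, Q₁ (b i) = Q₂ (b i))
    (h2 : ∀ i j, polar Q₁ (b i) (b j) = polar Q₂ (b i) (b j)) (w : W) : Q₁ w = Q₂ w := by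
  have hB : polarBilin Q₁ = polarBilin Q₂ := LinearMap.ext_basis b b h2
  have hp : ∀ x y, polar Q₁ x y = polar Q₂ x y := fun x y => LinearMap.congr_fun (LinearMap.congr_fun hB x) y
  have hw : w ∈ Submodule.span F (Set.range b) := by rw [b.span_eq]; trivial
  induction hw using Submodule.span_induction with
  | mem x hx => obtain ⟨i, rfl⟩ := hx; exact h1 i
  | zero => rw [QuadraticMap.map_zero, QuadraticMap.map_zero]
  | add x y _ _ hx hy => rw [q_add, q_add, hx, hy, hp]
  | smul c x _ hx => rw [q_smul, q_smul, hx]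

variable {κ : Type} [Fintype κ] [DecidableEq κ] {G : Matrix κ κ F}

theorem frame_indep (hN : IsInv Q N) (hG : IsUnit G.det) {e : κ → F} {x : κ → V} (hx : Frame Q N G e x) :
    LinearIndependent F (Sum.elim x fun i => N (x i)) := by
  rw [Fintype.linearIndependent_iff]
  intro c hc
  rw [Fintype.sum_sum_type] at hc
  simp only [Sum.elim_inl, Sum.elim_inr] at hc
  have hG0 : ∀ d : κ → F, (∀ i, ∑ j, d j * G i j = 0) → d = 0 := by
    intro d hd
    have h : G.mulVec d = 0 := funext fun i => by simpa [Matrix.mulVec, dotProduct, mul_comm] using hd i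
    have := congrArg (fun w => G⁻¹.mulVec w) h
    simpa only [Matrix.mulVec_mulVec, Matrix.nonsing_inv_mul _ hG, Matrix.one_mulVec, Matrix.mulVec_zero] using this
  have h1 : (fun j => c (Sum.inr j)) = 0 := hG0 _ fun i => by
    have h := congrArg (fun w => polarBilin Q (x i) w) hc
    simp only [map_add, map_sum, map_smul, smul_eq_mul, map_zero, polarBilin_apply_apply, hx.orth, hx.gram,
      mul_zero, Finset.sum_const_zero, zero_add] at h
    exact h
  have h3 : (fun j => c (Sum.inl j)) = 0 := hG0 _ fun i => by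
    have h := congrArg (fun w => polarBilin Q (N (x i)) w) hc
    simp only [map_add, map_sum, map_smul, smul_eq_mul, map_zero, polarBilin_apply_apply, hN.adj (x i), hN.sq,
      hx.gram, b_zero_right, mul_zero, Finset.sum_const_zero, add_zero] at h
    exact h
  rintro (i | i)
  exacts [congrFun h3 i, congrFun h1 i]

theorem frame_card_le [FiniteDimensional F V] (hN : IsInv Q N) (hG : IsUnit G.det) {e : κ → F} {x : κ → V}
    (hx : Frame Q N G e x) : 2 * Fintype.card κ ≤ finrank F V := by
  have h := (frame_indep hN hG hx).fintype_card_le_finrank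
  rw [Fintype.card_sum] at h
  omega

variable [Finite F]

/-- Adding elements of the range keeps a frame a frame. -/
theorem Frame.shift (hN : IsInv Q N) {e e' : κ → F} {x : κ → V} (hx : Frame Q N G e x) (w : κ → V)
    (hs : ∀ i j, polar Q (x i) (N (w j)) = polar Q (x j) (N (w i)))
    (he : ∀ i, e i + Q (N (w i)) + polar Q (x i) (N (w i)) = e' i) :
    Frame Q N G e' (fun i => x i + N (w i)) := by
  refine ⟨fun i j => ?_, fun i j => ?_, fun i => ?_⟩
  · rw [map_add, hN.sq, add_zero, b_add_left, hN.polar_range, add_zero, hx.gram]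
  · rw [b_add_left, b_add_right, b_add_right, hx.orth, hN.polar_range, hs, b_comm (N (w i)) (x j)]
    linear_combination polar Q (x j) (N (w i)) * (CharTwo.two_eq_zero (R := F))
  · rw [q_add, hx.value, he]

theorem exists_frame_iso (hN : IsInv Q N) (hG : IsUnit G.det) (z : κ → V)
    (hz : ∀ i j, polar Q (z i) (N (z j)) = G i j) : ∃ e x, Frame Q N G e x := by
  obtain ⟨x, hx, hxx⟩ := SpInv.exists_adapted (B := polarBilin Q) (polar_isAlt Q) hN.isNil G hG z hz
  exact ⟨fun i => Q (x i), x, hx, hxx, fun _ => rfl⟩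

variable [FiniteDimensional F V]

omit [Finite F] in
theorem conj_of_frames (hQ : (polarBilin Q).Nondegenerate) (hN : IsInv Q N) {N' : V →ₗ[F] V} (hN' : IsInv Q N')
    (hG : IsUnit G.det) (hr : Fintype.card κ = finrank F (LinearMap.range N))
    (hr' : Fintype.card κ = finrank F (LinearMap.range N'))
    {e : κ → F} {x y : κ → V} (hx : Frame Q N G e x) (hy : Frame Q N' G e y) :
    ∃ g ∈ oGroup Q, ∀ v, g (N v) = N' (g v) := by
  have hlix := frame_indep hN hG hx
  have hliy := frame_indep hN' hG hy
  let bX := Basis.span hlix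
  let φ : Submodule.span F (Set.range (Sum.elim x fun i => N (x i))) →ₗ[F] V :=
    bX.constr F (Sum.elim y fun i => N' (y i))
  have hφb : ∀ k, φ (bX k) = Sum.elim y (fun i => N' (y i)) k := fun k => Basis.constr_basis _ _ _ k
  have hbX : ∀ k, ((bX k : _) : V) = Sum.elim x (fun i => N (x i)) k := fun k => by
    simp [bX, Basis.span_apply]
  have hinj : Function.Injective φ := by
    rw [← LinearMap.ker_eq_bot, LinearMap.ker_eq_bot']
    intro a ha
    rw [← bX.sum_repr a, map_sum] at ha
    simp only [map_smul, hφb] at ha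
    have h := Fintype.linearIndependent_iff.1 hliy _ ha
    rw [← bX.sum_repr a]
    simp [h]
  have hform : ∀ a : Submodule.span F (Set.range (Sum.elim x fun i => N (x i))), Q (φ a) = Q (a : V) := by
    refine ext_basis bX (Q₁ := Q.comp φ) (Q₂ := Q.comp (Submodule.subtype _)) (fun k => ?_) (fun k l => ?_)
    · simp only [QuadraticMap.comp_apply, Submodule.coe_subtype, hφb, hbX]
      rcases k with k | k <;> simp only [Sum.elim_inl, Sum.elim_inr]
      · rw [hx.value, hy.value]
      · rw [hN.gram_diag hx, hN'.gram_diag hy]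
    · show polar (fun a => Q (φ a)) (bX k) (bX l) = polar (fun a : Submodule.span F _ => Q (a : V)) (bX k) (bX l)
      simp only [polar, map_add, Submodule.coe_add]
      show polar Q (φ (bX k)) (φ (bX l)) = polar Q (bX k : V) (bX l : V)
      rw [hφb, hφb, hbX, hbX]
      rcases k with k | k <;> rcases l with l | l <;> simp only [Sum.elim_inl, Sum.elim_inr]
      · rw [hx.orth, hy.orth]
      · rw [hx.gram, hy.gram]
      · rw [hN.adj, hN'.adj, hx.gram, hy.gram]
      · rw [hN.polar_range, hN'.polar_range]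
  obtain ⟨g, -, hg, hgφ⟩ := witt hQ full_oGroup _ φ hinj hform
  have hgx : ∀ i, g (x i) = y i := fun i => by
    have h := hgφ (bX (Sum.inl i))
    rwa [hφb, hbX] at h
  have hgNx : ∀ i, g (N (x i)) = N' (y i) := fun i => by
    have h := hgφ (bX (Sum.inr i))
    rwa [hφb, hbX] at h
  have hspan : ∀ (M : V →ₗ[F] V) (u : κ → V), (LinearIndependent F fun i => M (u i)) →
      Fintype.card κ = finrank F (LinearMap.range M) → ∀ v, M v ∈ Submodule.span F (Set.range fun i => M (u i)) := by
    intro M u hli hcard v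
    have hle : Submodule.span F (Set.range fun i => M (u i)) ≤ LinearMap.range M :=
      Submodule.span_le.2 (by rintro _ ⟨i, rfl⟩; exact ⟨u i, rfl⟩)
    rw [Submodule.eq_of_le_of_finrank_eq hle (by rw [finrank_span_eq_card hli, hcard])]
    exact ⟨v, rfl⟩
  have hliNy : LinearIndependent F fun i => N' (y i) := hliy.comp Sum.inr Sum.inr_injective
  have hliNx : LinearIndependent F fun i => N (x i) := hlix.comp Sum.inr Sum.inr_injective
  refine ⟨g, hg, fun v => ?_⟩
  have h1 : g (N v) ∈ Submodule.span F (Set.range fun i => N' (y i)) := by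
    have h := Submodule.apply_mem_span_image_of_mem_span g.toLinearMap (hspan N x hliNx hr v)
    rw [← Set.range_comp] at h
    simpa [Function.comp_def, hgNx] using h
  have h3 := Submodule.sub_mem _ h1 (hspan N' y hliNy hr' (g v))
  obtain ⟨c, hc⟩ := (Submodule.mem_span_range_iff_exists_fun F).1 h3
  have hz0 : ∀ i, polar Q (y i) (g (N v) - N' (g v)) = 0 := fun i => by
    rw [b_sub_right, sub_eq_zero, ← hN'.adj, ← hgx, b_map hg, ← hN.adj, hgx, ← hgNx, b_map hg]
  have hc0 : G.mulVec c = 0 := funext fun i => by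
    have h := hz0 i
    rw [← hc, ← polarBilin_apply_apply] at h
    simpa [Matrix.mulVec, dotProduct, hy.gram, mul_comm] using h
  have hc1 : c = 0 := by
    have := congrArg (fun w => G⁻¹.mulVec w) hc0
    simpa only [Matrix.mulVec_mulVec, Matrix.nonsing_inv_mul _ hG, Matrix.one_mulVec, Matrix.mulVec_zero] using this
  rw [← sub_eq_zero, ← hc, hc1]
  simp

omit [Fintype κ] [DecidableEq κ] in
/-- The alternate case: representatives spanning a singular space. -/
theorem exists_frame_alt (hQ : (polarBilin Q).Nondegenerate) (hN : IsInv Q N) (halt : ∀ v, Q (N v) = 0) :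
    ∃ (k : ℕ) (x : Fin k ⊕ Fin k → V), finrank F (LinearMap.range N) = 2 * k ∧
      Frame Q N (Matrix.J (Fin k) F) 0 x := by
  classical
  obtain ⟨k, z, hk, hz⟩ := (SpInv.exists_normal (B := polarBilin Q) (polar_isAlt Q) hQ hN.isNil).2
    (fun v => by rw [polarBilin_apply_apply, ← hN.val]; exact halt v)
  have hG := Matrix.isUnit_det_J (Fin k) F
  obtain ⟨e, x, hx⟩ := exists_frame_iso hN hG z hz
  let C : Matrix (Fin k ⊕ Fin k) (Fin k ⊕ Fin k) F := (Matrix.J (Fin k) F)⁻¹ * Matrix.diagonal e
  let w : Fin k ⊕ Fin k → V := fun j => ∑ l, C l j • x l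
  have hw : ∀ i j, polar Q (x i) (N (w j)) = Matrix.diagonal e i j := fun i j => by
    have h : (Matrix.J (Fin k) F * C) i j = Matrix.diagonal e i j := by
      simp only [C]; rw [← mul_assoc, Matrix.mul_nonsing_inv _ hG, one_mul]
    rw [← polarBilin_apply_apply]
    simp only [w, map_sum, map_smul, smul_eq_mul, polarBilin_apply_apply, hx.gram]
    rw [← h, Matrix.mul_apply]
    exact Finset.sum_congr rfl fun l _ => mul_comm _ _
  refine ⟨k, _, hk, hx.shift hN w (fun i j => ?_) (fun i => ?_)⟩
  · rw [hw, hw]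
    rcases eq_or_ne i j with rfl | hij
    · rfl
    · rw [Matrix.diagonal_apply_ne _ hij, Matrix.diagonal_apply_ne _ (Ne.symm hij)]
  · rw [halt, add_zero, hw, Matrix.diagonal_apply_eq, Pi.zero_apply, CharTwo.add_self_eq_zero]

/-- The standard values of a frame of a non-alternate involution. -/
def stdVal (s : ℕ) (c : F) : Fin s → F := fun i => if i.val = 0 then c else 0

omit [Fintype κ] [DecidableEq κ] in
/-- The non-alternate case. -/
theorem exists_frame_odd (hQ : (polarBilin Q).Nondegenerate) (hN : IsInv Q N) (hna : ∃ v, Q (N v) ≠ 0)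
    (ζ : F) (hζ : ∀ t : F, t ^ 2 + t + ζ ≠ 0) :
    ∃ (c : F) (x : Fin (finrank F (LinearMap.range N)) → V), (c = 0 ∨ c = ζ) ∧
      Frame Q N (1 : Matrix _ _ F) (stdVal _ c) x := by
  classical
  obtain ⟨z, hz⟩ := (SpInv.exists_normal (B := polarBilin Q) (polar_isAlt Q) hQ hN.isNil).1 (by
    obtain ⟨v, hv⟩ := hna
    exact ⟨v, by rw [polarBilin_apply_apply, ← hN.val]; exact hv⟩)
  generalize hs : finrank F (LinearMap.range N) = s at z hz ⊢
  have hG : IsUnit (1 : Matrix (Fin s) (Fin s) F).det := by simp
  obtain ⟨e, x, hx⟩ := exists_frame_iso hN hG z hz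
  rcases Nat.eq_zero_or_pos s with hs0 | hs0
  · subst hs0
    exact ⟨0, x, Or.inl rfl, ⟨hx.gram, hx.orth, fun i => i.elim0⟩⟩
  let o : Fin s := ⟨0, hs0⟩
  choose r hr using fun i => LBSpOrth.sq_surj (e i)
  -- a correction pushing all values to the first vector
  have step : ∀ (e : Fin s → F) (x : Fin s → V), Frame Q N 1 e x → ∀ S : Matrix (Fin s) (Fin s) F, S.transpose = S →
      ∀ e' : Fin s → F, (∀ i, e i + (∑ l, S l i * S l i) + S i i = e' i) → ∃ y, Frame Q N 1 e' y := by
    intro e x hx S hS e' he'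
    let w : Fin s → V := fun j => ∑ l, S l j • x l
    have hw : ∀ i j, polar Q (x i) (N (w j)) = S i j := fun i j => by
      rw [← polarBilin_apply_apply]
      simp only [w, map_sum, map_smul, smul_eq_mul, polarBilin_apply_apply, hx.gram, Matrix.one_apply]
      rw [Finset.sum_eq_single i (fun l _ hl => by rw [if_neg (Ne.symm hl), mul_zero])
        (fun h => absurd (Finset.mem_univ i) h), if_pos rfl, mul_one]
    refine ⟨_, hx.shift hN w (fun i j => ?_) (fun i => ?_)⟩
    · rw [hw, hw, ← Matrix.transpose_apply S i j, hS]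
    · rw [hw, ← he']
      congr 2
      rw [hN.q_sum]
      refine Finset.sum_congr rfl fun l _ => ?_
      rw [hN.gram_diag hx, Matrix.one_apply_eq, mul_one]
  let S : Matrix (Fin s) (Fin s) F := fun i j => (if i = o ∧ j ≠ o then r j else 0) + (if j = o ∧ i ≠ o then r i else 0)
  let e₁ : Fin s → F := fun i => if i = o then e o + ∑ l, S l o * S l o else 0
  obtain ⟨x₁, hx₁⟩ := step e x hx S (by ext i j; rw [Matrix.transpose_apply]; exact add_comm _ _) e₁ (by
    intro i
    have hd : S i i = 0 := by simp only [S]; split_ifs <;> simp_all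
    rw [hd, add_zero]
    simp only [e₁]
    split_ifs with hio
    · rw [hio]
    · rw [Finset.sum_eq_single o (fun l _ hl => by simp [S, hl, hio]) (fun h => absurd (Finset.mem_univ o) h)]
      simp only [S, hio, ne_eq, not_false_eq_true, and_self, if_true, false_and, if_false, add_zero]
      rw [← pow_two, hr, CharTwo.add_self_eq_zero])
  obtain ⟨c, a, hc, ha⟩ : ∃ c a, (c = 0 ∨ c = ζ) ∧ e₁ o + a * a + a = c := by
    by_cases h0 : ∀ t : F, t ^ 2 + t + e₁ o ≠ 0
    · obtain ⟨t, ht⟩ := LBSpOrth.as_add h0 hζ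
      exact ⟨ζ, t, Or.inr rfl, by linear_combination ht - ζ * (CharTwo.two_eq_zero (R := F))⟩
    · push Not at h0
      obtain ⟨t, ht⟩ := h0
      exact ⟨0, t, Or.inl rfl, by linear_combination ht⟩
  obtain ⟨y, hy⟩ := step e₁ x₁ hx₁ (Matrix.diagonal fun i => if i = o then a else 0) (Matrix.diagonal_transpose _)
    (stdVal s c) (by
      intro i
      rw [Finset.sum_eq_single i (fun l _ hl => by rw [Matrix.diagonal_apply_ne _ hl, mul_zero])
        (fun h => absurd (Finset.mem_univ i) h), Matrix.diagonal_apply_eq]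
      by_cases hio : i = o
      · rw [hio, if_pos rfl, stdVal, if_pos rfl, ha]
      · rw [if_neg hio, stdVal, if_neg (fun h => hio (Fin.ext h))]
        simp [e₁, hio])
  exact ⟨c, y, hc, hy⟩

omit [Finite F] [FiniteDimensional F V] in
/-- Projection to the orthogonal of a frame. -/
theorem proj_frame (hN : IsInv Q N) {s : ℕ} {e : Fin s → F} {x : Fin s → V}
    (hx : Frame Q N (1 : Matrix _ _ F) e x) (v : V) :
    let v' := v + ∑ i, polar Q v (N (x i)) • x i + ∑ i, polar Q v (x i) • N (x i)
    ∀ i, polar Q v' (x i) = 0 ∧ polar Q v' (N (x i)) = 0 := by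
  intro v' i
  have h1 : ∀ j, polar Q (N (x j)) (x i) = (1 : Matrix (Fin s) (Fin s) F) j i := fun j => by rw [hN.adj, hx.gram]
  simp only [v', ← polarBilin_apply_apply, map_add, LinearMap.add_apply, map_sum, LinearMap.sum_apply, map_smul,
    LinearMap.smul_apply, smul_eq_mul]
  simp only [polarBilin_apply_apply, h1, hx.orth, hx.gram, hN.polar_range, Matrix.one_apply, mul_zero,
    Finset.sum_const_zero, add_zero, mul_ite, mul_one, Finset.sum_ite_eq', Finset.mem_univ, if_true]
  exact ⟨CharTwo.add_self_eq_zero _, CharTwo.add_self_eq_zero _⟩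

omit [Finite F] in
/-- Below the maximal rank there is a non-singular fixed vector orthogonal to the frame. -/
theorem exists_outside (hQ : (polarBilin Q).Nondegenerate) (hN : IsInv Q N) {s : ℕ} {e : Fin s → F}
    {x : Fin s → V} (hx : Frame Q N (1 : Matrix _ _ F) e x) (hs : finrank F (LinearMap.range N) = s)
    (hlt : 2 * s < finrank F V) :
    ∃ k, Q k ≠ 0 ∧ N k = 0 ∧ ∀ i, polar Q k (x i) = 0 ∧ polar Q k (N (x i)) = 0 := by
  classical
  let U := Submodule.span F (Set.range (Sum.elim x fun i => N (x i)))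
  have hU : finrank F U = s + s := by
    rw [finrank_span_eq_card (frame_indep hN (by simp) hx)]; simp
  obtain ⟨v, hv⟩ : ∃ v, v ∉ U := by
    by_contra h
    push Not at h
    rw [show U = ⊤ from eq_top_iff.2 fun v _ => h v, finrank_top] at hU
    omega
  let pr : V → V := fun v => v + ∑ i, polar Q v (N (x i)) • x i + ∑ i, polar Q v (x i) • N (x i)
  have hsum : ∀ v, pr v - v ∈ U := fun v => by
    simp only [pr, add_sub_right_comm, sub_self, zero_add]
    exact U.add_mem (Submodule.sum_mem _ fun i _ => U.smul_mem _ (Submodule.subset_span ⟨Sum.inl i, rfl⟩))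
      (Submodule.sum_mem _ fun i _ => U.smul_mem _ (Submodule.subset_span ⟨Sum.inr i, rfl⟩))
  have hperp : ∀ {k}, (∀ i, polar Q k (x i) = 0 ∧ polar Q k (N (x i)) = 0) → ∀ u ∈ U, polar Q k u = 0 := by
    intro k hk u hu
    induction hu using Submodule.span_induction with
    | mem z hz => rcases hz with ⟨i | i, rfl⟩ <;> [exact (hk i).1; exact (hk i).2]
    | zero => exact b_zero_right k
    | add a b _ _ ha hb => rw [b_add_right, ha, hb, add_zero]
    | smul c a _ ha => rw [b_smul_right, ha, mul_zero]
  have hfix : ∀ {k}, (∀ i, polar Q k (x i) = 0 ∧ polar Q k (N (x i)) = 0) → N k = 0 := by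
    intro k hk
    have hR : LinearMap.range N ≤ U := by
      have hli : LinearIndependent F fun i => N (x i) := (frame_indep hN (by simp) hx).comp Sum.inr Sum.inr_injective
      have hle : Submodule.span F (Set.range fun i => N (x i)) ≤ LinearMap.range N :=
        Submodule.span_le.2 (by rintro _ ⟨i, rfl⟩; exact ⟨x i, rfl⟩)
      rw [← Submodule.eq_of_le_of_finrank_eq hle (by rw [finrank_span_eq_card hli, hs, Fintype.card_fin])]
      exact Submodule.span_mono (by rintro _ ⟨i, rfl⟩; exact ⟨Sum.inr i, rfl⟩)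
    refine eq_zero_of_b hQ fun w => ?_
    rw [hN.adj]
    exact hperp hk _ (hR ⟨w, rfl⟩)
  have hk := proj_frame hN hx v
  have hk0 : pr v ≠ 0 := fun h => hv (by
    have := hsum v
    rw [h, zero_sub] at this
    exact (Submodule.neg_mem_iff U).1 this)
  by_cases hQk : Q (pr v) ≠ 0
  · exact ⟨_, hQk, hfix hk, hk⟩
  push Not at hQk
  obtain ⟨w, hw⟩ : ∃ w, polar Q (pr v) w ≠ 0 := by
    by_contra h
    push Not at h
    exact hk0 (eq_zero_of_b hQ h)
  have hk' := proj_frame hN hx w
  have hkw : polar Q (pr v) (pr w) = polar Q (pr v) w := by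
    have h := hperp hk _ (hsum w)
    rwa [b_sub_right, sub_eq_zero] at h
  by_cases hQw : Q (pr w) ≠ 0
  · exact ⟨_, hQw, hfix hk', hk'⟩
  push Not at hQw
  have hsum' : ∀ i, polar Q (pr v + pr w) (x i) = 0 ∧ polar Q (pr v + pr w) (N (x i)) = 0 := fun i =>
    ⟨(b_add_left (pr v) (pr w) (x i)).trans (by
        rw [show polar Q (pr v) (x i) = 0 from (hk i).1, show polar Q (pr w) (x i) = 0 from (hk' i).1, add_zero]),
      (b_add_left (pr v) (pr w) (N (x i))).trans (by
        rw [show polar Q (pr v) (N (x i)) = 0 from (hk i).2, show polar Q (pr w) (N (x i)) = 0 from (hk' i).2,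
          add_zero])⟩
  exact ⟨_, by rw [q_add, hQk, hQw, hkw, zero_add, zero_add]; exact hw, hfix hsum', hsum'⟩

omit [Fintype κ] [DecidableEq κ] in
/-- Below the maximal rank the values can all be made zero. -/
theorem exists_frame_zero (hQ : (polarBilin Q).Nondegenerate) (hN : IsInv Q N) (hna : ∃ v, Q (N v) ≠ 0)
    (hlt : 2 * finrank F (LinearMap.range N) < finrank F V) :
    ∃ x : Fin (finrank F (LinearMap.range N)) → V, Frame Q N (1 : Matrix _ _ F) (stdVal _ 0) x := by
  classical
  obtain ⟨ζ, hζ⟩ := LBSpOrth.exists_nonsplit (F := F)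
  obtain ⟨c, x, -, hx⟩ := exists_frame_odd hQ hN hna ζ hζ
  obtain ⟨k, hk, hNk, hkx⟩ := exists_outside hQ hN hx rfl hlt
  obtain ⟨a, ha⟩ := LBSpOrth.sq_surj (c / Q k)
  let o : Fin (finrank F (LinearMap.range N)) → F := fun i => if i.val = 0 then a else 0
  refine ⟨fun i => x i + o i • k, fun i j => ?_, fun i j => ?_, fun i => ?_⟩
  · rw [map_add, map_smul, hNk, smul_zero, add_zero, b_add_left, b_smul_left, (hkx j).2, mul_zero, add_zero, hx.gram]
  · rw [b_add_left, b_add_right, b_add_right, hx.orth, b_smul_left, b_smul_left, b_smul_right, b_smul_right,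
      (hkx j).1, b_comm (x i) k, (hkx i).1, b_self, CharTwo.two_eq_zero]
    ring
  · rw [q_add, q_smul, hx.value, b_smul_right, b_comm, (hkx i).1, mul_zero, add_zero]
    simp only [o, stdVal]
    split_ifs
    · rw [← pow_two, ha, div_mul_cancel₀ _ hk, CharTwo.add_self_eq_zero]
    · simp

/-- A singular subspace of half the dimension forces all values of a frame of maximal rank to vanish. -/
theorem value_zero (hQ : (polarBilin Q).Nondegenerate) (hN : IsInv Q N) {s : ℕ} {c ζ : F}
    (hζ : ∀ t : F, t ^ 2 + t + ζ ≠ 0) (hc : c = 0 ∨ c = ζ) {x : Fin s → V}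
    (hx : Frame Q N (1 : Matrix _ _ F) (stdVal s c) x) (hs : 2 * s = finrank F V)
    {W : Submodule F V} (hW : ∀ w ∈ W, Q w = 0) (hWs : finrank F W = s) : stdVal s c = 0 := by
  classical
  funext i
  rcases hc with rfl | rfl
  · simp [stdVal]
  exfalso
  have hspos : 0 < s := i.pos
  have hG : IsUnit (1 : Matrix (Fin s) (Fin s) F).det := by simp
  have hli := frame_indep hN hG hx
  let o : Fin s := ⟨0, hspos⟩
  let y : {l : Fin s // l ≠ o} → V := fun l => x l.1
  let Y := Submodule.span F (Set.range y)
  have hYs : ∀ w ∈ Y, Q w = 0 := by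
    intro w hw
    have key : Q w = 0 ∧ ∀ l, polar Q (x l) w = 0 := by
      induction hw using Submodule.span_induction with
      | mem z hz =>
        obtain ⟨l, rfl⟩ := hz
        exact ⟨by rw [hx.value, stdVal, if_neg (fun h => l.2 (Fin.ext h))], fun j => hx.orth j l.1⟩
      | zero => exact ⟨QuadraticMap.map_zero _, fun j => b_zero_right _⟩
      | add a b ha hb iha ihb =>
        refine ⟨?_, fun j => by rw [b_add_right, iha.2, ihb.2, add_zero]⟩
        rw [q_add, iha.1, ihb.1, zero_add, zero_add]
        clear iha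
        induction ha using Submodule.span_induction with
        | mem z hz => obtain ⟨l, rfl⟩ := hz; exact ihb.2 _
        | zero => exact b_zero_left _
        | add p q _ _ hp hq => rw [b_add_left, hp, hq, add_zero]
        | smul r p _ hp => rw [b_smul_left, hp, mul_zero]
      | smul r a _ iha => exact ⟨by rw [q_smul, iha.1, mul_zero], fun j => by rw [b_smul_right, iha.2, mul_zero]⟩
    exact key.1
  have hYd : finrank F Y = s - 1 := by
    have e : Y = Submodule.span F (Set.range (((Sum.elim x fun i => N (x i)) ∘ Sum.inl) ∘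
      (Subtype.val : {l : Fin s // l ≠ o} → Fin s))) := rfl
    rw [e, finrank_span_eq_card ((hli.comp Sum.inl Sum.inl_injective).comp Subtype.val Subtype.val_injective)]
    simp [Fintype.card_subtype_compl]
  have hmax : ∀ W' : Submodule F V, Y ≤ W' → (∀ w ∈ W', Q w = 0) → W' = Y := by
    intro W' hle hW'
    refine le_antisymm (fun v hv => ?_) hle
    have hperp : ∀ l : {l : Fin s // l ≠ o}, polar Q v (y l) = 0 := fun l =>
      b_eq_zero_of_singular hW' hv (hle (Submodule.subset_span ⟨l, rfl⟩))
    have htop : Submodule.span F (Set.range (Sum.elim x fun i => N (x i))) = ⊤ :=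
      hli.span_eq_top_of_card_eq_finrank' (by rw [Fintype.card_sum, Fintype.card_fin]; omega)
    obtain ⟨d, hd⟩ := (Submodule.mem_span_range_iff_exists_fun F).1 (htop.ge (Submodule.mem_top (x := v)))
    rw [Fintype.sum_sum_type] at hd
    simp only [Sum.elim_inl, Sum.elim_inr] at hd
    have hb : ∀ l, polar Q v (x l) = d (.inr l) := fun l => by
      rw [← hd, ← polarBilin_apply_apply]
      simp only [map_add, LinearMap.add_apply, map_sum, LinearMap.sum_apply, map_smul, LinearMap.smul_apply,
        smul_eq_mul, polarBilin_apply_apply, hx.orth, mul_zero, Finset.sum_const_zero, zero_add]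
      rw [Finset.sum_eq_single l (fun j _ hj => by rw [hN.adj, hx.gram, Matrix.one_apply_ne hj, mul_zero])
        (fun h => absurd (Finset.mem_univ l) h), hN.adj, hx.gram, Matrix.one_apply_eq, mul_one]
    have hd0 : ∀ l, l ≠ o → d (.inr l) = 0 := fun l hl => (hb l).symm.trans (hperp ⟨l, hl⟩)
    have hv' : v = d (.inr o) • N (x o) + d (.inl o) • x o + ∑ l : {l : Fin s // l ≠ o}, d (.inl l.1) • y l := by
      rw [← hd, Finset.sum_eq_single (f := fun l => d (.inr l) • N (x l)) o
        (fun j _ hj => by rw [hd0 j hj, zero_smul]) (fun h => absurd (Finset.mem_univ o) h),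
        Fintype.sum_eq_add_sum_subtype_ne (fun l => d (.inl l) • x l) o]
      abel
    have hyY : (∑ l : {l : Fin s // l ≠ o}, d (.inl l.1) • y l) ∈ Y :=
      Submodule.sum_mem _ fun l _ => Y.smul_mem _ (Submodule.subset_span ⟨l, rfl⟩)
    generalize hyd : (∑ l : {l : Fin s // l ≠ o}, d (.inl l.1) • y l) = u at hv' hyY
    have h0 : Q (d (.inr o) • N (x o) + d (.inl o) • x o) = 0 := by
      have e : d (.inr o) • N (x o) + d (.inl o) • x o = v - u := by rw [hv']; abel
      rw [e]
      exact hW' _ (W'.sub_mem hv (hle hyY))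
    rw [q_add, q_smul, q_smul, hN.gram_diag hx, Matrix.one_apply_eq, hx.value, b_smul_left, b_smul_right,
      hN.adj, hx.gram, Matrix.one_apply_eq, stdVal, if_pos rfl] at h0
    generalize d (.inr o) = p at h0 hv'
    generalize d (.inl o) = r at h0 hv'
    rcases eq_or_ne r 0 with rfl | hr
    · have hp : p = 0 := by
        rw [mul_one, zero_mul, zero_mul, add_zero, mul_one, mul_zero, add_zero] at h0
        exact mul_self_eq_zero.1 h0
      rw [hv', hp, zero_smul, zero_smul, zero_add, zero_add]; exact hyY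
    · exact absurd (by field_simp; linear_combination h0) (hζ (p / r))
  have := finrank_maximal_le hQ hYs hW hmax
  omega

end Cfsg.Agent.OrthInv2
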