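/-
The spinor invariant of an involution in characteristic two is the parity of the rank of `t - 1`.
-/
import Cfsg.Agent.Lib.Orthogonal.CharTwoInv.Normal
import Cfsg.Agent.Lib.Orthogonal.Siegel

set_option autoImplicit false

universe u v

namespace Cfsg.Agent.OrthInv2

open QuadraticMap Module Cfsg.Agent.Orth

variable {F : Type u} [Field F] [CharP F 2] {V : Type v} [AddCommGroup V] [Module F V] [FiniteDimensional F V]
  {Q : QuadraticForm F V} {N : V →ₗ[F] V}

omit [FiniteDimensional F V] in
theorem v_sub_eq_add (_Q : QuadraticForm F V) (a b : V) : a - b = a + b := by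
  rw [sub_eq_add_neg, ← neg_one_smul F b, CharTwo.neg_eq, one_smul]

theorem eq_of_gram (hN : IsInv Q N) {κ : Type} [Fintype κ] [DecidableEq κ] {G : Matrix κ κ F} (hG : IsUnit G.det)
    {e : κ → F} {x : κ → V} (hx : Frame Q N G e x) (hr : Fintype.card κ = finrank F (LinearMap.range N))
    {w w' : V} (hw : w ∈ LinearMap.range N) (hw' : w' ∈ LinearMap.range N)
    (h : ∀ i, polar Q (x i) w = polar Q (x i) w') : w = w' := by
  have hli : LinearIndependent F fun i => N (x i) := (frame_indep hN hG hx).comp Sum.inr Sum.inr_injective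
  have hle : Submodule.span F (Set.range fun i => N (x i)) ≤ LinearMap.range N :=
    Submodule.span_le.2 (by rintro _ ⟨i, rfl⟩; exact ⟨x i, rfl⟩)
  have heq := Submodule.eq_of_le_of_finrank_eq hle (by rw [finrank_span_eq_card hli, hr])
  have hmem : w - w' ∈ Submodule.span F (Set.range fun i => N (x i)) := by rw [heq]; exact Submodule.sub_mem _ hw hw'
  obtain ⟨c, hc⟩ := (Submodule.mem_span_range_iff_exists_fun F).1 hmem
  have hc0 : G.mulVec c = 0 := funext fun i => by
    have h1 : polar Q (x i) (w - w') = 0 := by rw [b_sub_right, h, sub_self]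
    rw [← hc, ← polarBilin_apply_apply] at h1
    simpa [Matrix.mulVec, dotProduct, hx.gram, mul_comm] using h1
  have hc1 : c = 0 := by
    have := congrArg (fun w => G⁻¹.mulVec w) hc0
    simpa only [Matrix.mulVec_mulVec, Matrix.nonsing_inv_mul _ hG, Matrix.one_mulVec, Matrix.mulVec_zero] using this
  rw [← sub_eq_zero, ← hc, hc1]
  simp

/-- An orthonormal frame writes `t` as a product of commuting reflections. -/
theorem expand_one (hN : IsInv Q N) {s : ℕ} {e : Fin s → F} {x : Fin s → V}
    (hx : Frame Q N (1 : Matrix _ _ F) e x) (hr : s = finrank F (LinearMap.range N)) (v : V) :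
    N v = ∑ i, polar Q v (N (x i)) • N (x i) := by
  refine eq_of_gram hN (by simp) hx (by simpa using hr) ⟨v, rfl⟩ (Submodule.sum_mem _ fun i _ =>
    Submodule.smul_mem _ _ ⟨x i, rfl⟩) fun j => ?_
  rw [← hN.adj, b_comm]
  show _ = polarBilin Q (x j) _
  rw [map_sum]
  simp only [map_smul, smul_eq_mul, polarBilin_apply_apply, hx.gram, Matrix.one_apply, mul_ite, mul_one, mul_zero,
    Finset.sum_ite_eq, Finset.mem_univ, if_true]

/-- A hyperbolic frame writes `t` as a product of commuting Siegel transformations. -/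
theorem expand_J (hN : IsInv Q N) {k : ℕ} {e : Fin k ⊕ Fin k → F} {x : Fin k ⊕ Fin k → V}
    (hx : Frame Q N (Matrix.J (Fin k) F) e x) (hr : 2 * k = finrank F (LinearMap.range N)) (v : V) :
    N v = ∑ i, (polar Q v (N (x (.inl i))) • N (x (.inr i)) + polar Q v (N (x (.inr i))) • N (x (.inl i))) := by
  refine eq_of_gram hN (Matrix.isUnit_det_J (Fin k) F) hx (by simp; omega) ⟨v, rfl⟩ (Submodule.sum_mem _ fun i _ =>
    Submodule.add_mem _ (Submodule.smul_mem _ _ ⟨_, rfl⟩) (Submodule.smul_mem _ _ ⟨_, rfl⟩)) fun j => ?_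
  rw [← hN.adj, b_comm]
  show _ = polarBilin Q (x j) _
  rw [map_sum]
  simp only [map_smul, map_add, smul_eq_mul, polarBilin_apply_apply, hx.gram]
  rcases j with j | j
  · simp [Matrix.J, Matrix.one_apply, CharTwo.neg_eq, Finset.sum_ite_eq]
  · simp [Matrix.J, Matrix.one_apply, CharTwo.neg_eq, Finset.sum_ite_eq]

variable [Fintype F]

/-- The spinor invariant of an involution. -/
theorem chi_invol (hQ : (polarBilin Q).Nondegenerate) (h : Fintype.card F ≠ 2 ∨ finrank F V ≠ 4)
    (χ : oGroup Q →* SpinVal F) (hχ : ∀ (r : oGroup Q) (v : V), IsRefl r.1 Q v → χ r = reflVal Q v)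
    (hN : IsInv Q N) {g : oGroup Q} (hg : ∀ v, g.1 v = v + N v) :
    χ g = (Multiplicative.ofAdd (finrank F (LinearMap.range N) : ZMod 2), 1) := by
  classical
  have ext_g : ∀ g' : oGroup Q, (∀ v, g'.1 v = v + N v) → g' = g := fun g' h' =>
    Subtype.ext (LinearEquiv.ext fun v => by rw [h', hg])
  by_cases halt : ∀ v, Q (N v) = 0
  · obtain ⟨k, x, hk, hx⟩ := exists_frame_alt hQ hN halt
    have key : ∀ S : Finset (Fin k), ∃ g' : oGroup Q, χ g' = 1 ∧ ∀ v, g'.1 v =
        v + ∑ i ∈ S, (polar Q v (N (x (.inl i))) • N (x (.inr i)) + polar Q v (N (x (.inr i))) • N (x (.inl i))) := by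
      intro S
      induction S using Finset.induction_on with
      | empty => exact ⟨1, map_one χ, fun v => by simp⟩
      | insert a S ha ih =>
        obtain ⟨g', hg'1, hg'⟩ := ih
        have hu : Q (N (x (.inl a))) = 0 := halt _
        have huy : polar Q (N (x (.inl a))) (N (x (.inr a))) = 0 := hN.polar_range _ _
        obtain ⟨T, hT, hTs⟩ := exists_siegel hu huy
        refine ⟨⟨T, hT⟩ * g', ?_, fun v => ?_⟩
        · rw [map_mul, hg'1, mul_one]
          exact siegel_ker hQ h hχ (g := ⟨T, hT⟩) hu huy hTs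
        · show T (g'.1 v) = _
          rw [hTs, halt, zero_mul, add_zero, v_sub_eq_add Q, hg', Finset.sum_insert ha]
          have hzero : ∀ z, polar Q (∑ i ∈ S, (polar Q v (N (x (.inl i))) • N (x (.inr i)) +
              polar Q v (N (x (.inr i))) • N (x (.inl i)))) (N z) = 0 := fun z => by
            rw [← polarBilin_apply_apply, map_sum, LinearMap.sum_apply]
            refine Finset.sum_eq_zero fun i _ => ?_
            simp [hN.polar_range]
          rw [b_add_left, b_add_left, hzero, hzero, add_zero, add_zero]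
          abel
    obtain ⟨g', hg'1, hg'⟩ := key Finset.univ
    rw [← ext_g g' (fun v => by rw [hg', ← expand_J hN hx hk.symm]), hg'1, hk, Nat.cast_mul]
    rw [show ((2 : ℕ) : ZMod 2) = 0 by decide, zero_mul]
    rfl
  · push Not at halt
    obtain ⟨ζ, hζ⟩ := LBSpOrth.exists_nonsplit (F := F)
    obtain ⟨c, x, -, hx⟩ := exists_frame_odd hQ hN halt ζ hζ
    have hval : ∀ i, Q (N (x i)) = 1 := fun i => by rw [hN.gram_diag hx, Matrix.one_apply_eq]
    have key : ∀ S : Finset (Fin (finrank F (LinearMap.range N))), ∃ g' : oGroup Q,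
        χ g' = (Multiplicative.ofAdd (S.card : ZMod 2), 1) ∧
          ∀ v, g'.1 v = v + ∑ i ∈ S, polar Q v (N (x i)) • N (x i) := by
      intro S
      induction S using Finset.induction_on with
      | empty => exact ⟨1, by rw [map_one]; rfl, fun v => by simp⟩
      | insert a S ha ih =>
        obtain ⟨g', hg'1, hg'⟩ := ih
        obtain ⟨r, hr, hr'⟩ := exists_isRefl (a := N (x a)) (Q := Q) (by rw [hval]; exact one_ne_zero)
        refine ⟨⟨r, hr⟩ * g', ?_, fun v => ?_⟩
        · rw [map_mul, hg'1, hχ _ _ hr', reflVal, hval, sqc_one, Prod.mk_mul_mk, one_mul, ← ofAdd_add,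
            Finset.card_insert_of_notMem ha, Nat.cast_succ, add_comm]
        · show r (g'.1 v) = _
          rw [hr'.2, hval, div_one, v_sub_eq_add Q, hg', Finset.sum_insert ha]
          have hzero : polar Q (∑ i ∈ S, polar Q v (N (x i)) • N (x i)) (N (x a)) = 0 := by
            rw [← polarBilin_apply_apply, map_sum, LinearMap.sum_apply]
            refine Finset.sum_eq_zero fun i _ => ?_
            simp [hN.polar_range]
          rw [b_add_left, hzero, add_zero]
          abel
    obtain ⟨g', hg'1, hg'⟩ := key Finset.univ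
    rw [← ext_g g' (fun v => by rw [hg', ← expand_one hN hx rfl]), hg'1, Finset.card_univ, Fintype.card_fin]

end Cfsg.Agent.OrthInv2
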