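/-
Models of involutions in characteristic two, and fixed non-singular vectors.
-/
import Cfsg.Agent.Lib.Orthogonal.CharTwoInv.Parity
import Cfsg.Agent.Lib.Orthogonal.MaxSingular

set_option autoImplicit false

universe u v

namespace Cfsg.Agent.OrthInv2

open QuadraticMap Module Cfsg.Agent.Orth

variable {F : Type u} [Field F] [CharP F 2] {V : Type v} [AddCommGroup V] [Module F V] [FiniteDimensional F V]
  {Q : QuadraticForm F V}

/-- The operator of a family of vectors and a permutation of them. -/
def famMap (Q : QuadraticForm F V) {κ : Type} [Fintype κ] (z : κ → V) (τ : κ → κ) : V →ₗ[F] V where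
  toFun v := ∑ i, polar Q v (z i) • z (τ i)
  map_add' a b := by rw [← Finset.sum_add_distrib]; simp only [b_add_left, add_smul]
  map_smul' c a := by rw [RingHom.id_apply, Finset.smul_sum]; simp only [b_smul_left, smul_smul]

variable {κ : Type} [Fintype κ]

omit [FiniteDimensional F V] [CharP F 2] in
theorem polar_famMap (z : κ → V) (τ : κ → κ) (v w : V) :
    polar Q w (famMap Q z τ v) = ∑ i, polar Q v (z i) * polar Q w (z (τ i)) := by
  show polarBilin Q w (∑ i, polar Q v (z i) • z (τ i)) = _
  simp [map_sum]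

omit [FiniteDimensional F V] [CharP F 2] in
theorem q_sum_orth {z : κ → V} (hz : ∀ i j, polar Q (z i) (z j) = 0) (s : Finset κ) (c : κ → F) :
    Q (∑ i ∈ s, c i • z i) = ∑ i ∈ s, c i * c i * Q (z i) := by
  classical
  induction s using Finset.induction_on with
  | empty => simp
  | insert a s ha ih =>
    rw [Finset.sum_insert ha, Finset.sum_insert ha, q_add, q_smul, ih]
    have : polar Q (c a • z a) (∑ i ∈ s, c i • z i) = 0 := by
      rw [← polarBilin_apply_apply, map_sum]
      refine Finset.sum_eq_zero fun i _ => ?_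
      simp [hz]
    rw [this, add_zero]

omit [FiniteDimensional F V] in
theorem famMap_isInv [DecidableEq κ] {z : κ → V} (τ : κ → κ) (hτ : Function.Involutive τ) (hz : ∀ i j, polar Q (z i) (z j) = 0)
    (hval : ∀ i, Q (z (τ i)) = if τ i = i then 1 else 0) : IsInv Q (famMap Q z τ) := by
  refine ⟨fun v => ?_, fun v => ?_⟩
  · show ∑ i, polar Q (famMap Q z τ v) (z i) • z (τ i) = 0
    refine Finset.sum_eq_zero fun i _ => ?_
    rw [b_comm, polar_famMap, Finset.sum_eq_zero fun j _ => by rw [hz, mul_zero], zero_smul]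
  · rw [polar_famMap]
    show Q (∑ i, polar Q v (z i) • z (τ i)) = _
    have hq := q_sum_orth (z := fun i => z (τ i)) (fun i j => hz _ _) Finset.univ (fun i => polar Q v (z i))
    rw [hq]
    have h1 : ∀ i, polar Q v (z i) * polar Q v (z i) * Q (z (τ i)) =
        if τ i = i then polar Q v (z i) * polar Q v (z (τ i)) else 0 := fun i => by
      rw [hval]; split_ifs with h
      · rw [h, mul_one]
      · rw [mul_zero]
    simp only [h1]
    rw [← Finset.sum_filter, ← Finset.sum_filter_add_sum_filter_not Finset.univ (fun i => τ i = i)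
      (fun i => polar Q v (z i) * polar Q v (z (τ i)))]
    refine left_eq_add.2 (Finset.sum_involution (fun i _ => τ i) (fun i _ => ?_) (fun i hi _ => ?_) (fun i hi => ?_)
      (fun i _ => hτ i))
    · rw [hτ, mul_comm (polar Q v (z (τ i)))]
      exact CharTwo.add_self_eq_zero _
    · exact (Finset.mem_filter.1 hi).2
    · simp only [Finset.mem_filter, Finset.mem_univ, true_and] at hi ⊢
      exact fun h => hi ((hτ i).symm.trans h).symm

omit [CharP F 2] in
theorem famMap_rank (hQ : (polarBilin Q).Nondegenerate) {z : κ → V} (τ : κ → κ) (hτ : Function.Bijective τ)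
    (hli : LinearIndependent F z) :
    finrank F (LinearMap.range (famMap Q z τ)) = Fintype.card κ ∧
      ∀ i, z i ∈ LinearMap.range (famMap Q z τ) := by
  classical
  have hle : LinearMap.range (famMap Q z τ) ≤ Submodule.span F (Set.range z) := by
    rintro _ ⟨v, rfl⟩
    exact Submodule.sum_mem _ fun i _ => Submodule.smul_mem _ _ (Submodule.subset_span ⟨_, rfl⟩)
  have hmem : ∀ i, z i ∈ LinearMap.range (famMap Q z τ) := by
    intro i
    obtain ⟨j, rfl⟩ := hτ.2 i
    let b := Basis.span hli
    obtain ⟨f, hf⟩ := LinearMap.exists_extend (b.constr F (Pi.single j (1 : F)))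
    obtain ⟨v, hv⟩ := exists_rep hQ f
    refine ⟨v, ?_⟩
    show ∑ l, polar Q v (z l) • z (τ l) = z (τ j)
    have hl : ∀ l, polar Q v (z l) = Pi.single (M := fun _ => F) j 1 l := fun l => by
      have e : z l = ((b l : _) : V) := by simp [b, Basis.span_apply]
      have h2 : f ((b l : _) : V) = Pi.single (M := fun _ => F) j 1 l := by
        rw [← Basis.constr_basis b F (Pi.single j (1 : F)) l, ← hf]; rfl
      have h3 := hv (z l)
      rw [b_comm] at h3
      rw [e] at h3 ⊢
      rw [← h2, ← h3, b_comm]
    rw [Finset.sum_eq_single j (fun l _ hlj => by rw [hl, Pi.single_eq_of_ne hlj, zero_smul])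
      (fun h => absurd (Finset.mem_univ j) h), hl, Pi.single_eq_same, one_smul]
  refine ⟨?_, hmem⟩
  rw [le_antisymm hle (Submodule.span_le.2 (by rintro _ ⟨i, rfl⟩; exact hmem i)), finrank_span_eq_card hli]

theorem alt_famMap_iff (hQ : (polarBilin Q).Nondegenerate) {z : κ → V} (τ : κ → κ) (hτ : Function.Bijective τ)
    (hli : LinearIndependent F z) (hz : ∀ i j, polar Q (z i) (z j) = 0) :
    (∀ v, Q (famMap Q z τ v) = 0) ↔ ∀ i, Q (z i) = 0 := by
  constructor
  · intro h i
    obtain ⟨v, hv⟩ := (famMap_rank hQ τ hτ hli).2 i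
    rw [← hv, h]
  · intro h v
    show Q (∑ i, polar Q v (z i) • z (τ i)) = 0
    rw [q_sum_orth (z := fun i => z (τ i)) (fun i j => hz _ _)]
    exact Finset.sum_eq_zero fun i _ => by rw [h, mul_zero]

omit [CharP F 2] in
/-- Small rank leaves a fixed non-singular vector. -/
theorem exists_fixed (hQ : (polarBilin Q).Nondegenerate) {N : V →ₗ[F] V} (hN : IsInv Q N) {n : ℕ}
    (hn : finrank F V = 2 * n) (h : (∃ v, Q (N v) ≠ 0) ∨ finrank F (LinearMap.range N) < n) :
    ∃ a, Q a ≠ 0 ∧ N a = 0 := by
  rcases h with ⟨v, hv⟩ | h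
  · exact ⟨N v, hv, hN.sq v⟩
  by_contra hc
  push Not at hc
  have hker : ∀ w ∈ LinearMap.ker N, Q w = 0 := fun w hw => by
    by_contra hw0
    exact hc w hw0 hw
  have := finrank_singular_le hQ hker
  have := LinearMap.finrank_range_add_finrank_ker N
  omega

end Cfsg.Agent.OrthInv2
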