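/-
Classes of involutions in matrix orthogonal groups in characteristic two.
-/
import Cfsg.Agent.Lib.Orthogonal.CharTwoInv.Model
import Cfsg.Agent.Lib.Orthogonal.OmegaTheory
import Cfsg.Agent.Lib.Orthogonal.OmegaIndex

set_option autoImplicit false

namespace Cfsg.Agent.OrthInv2

open QuadraticMap Module Cfsg.Agent.Orth Matrix

variable {F : Type*} [Field F] [CharP F 2] [Fintype F] {ι : Type} [Fintype ι] [DecidableEq ι]
  {Q : QuadraticForm F (ι → F)}

set_option quotPrecheck false in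
local notation "OQ" => Cfsg.isometryGroup F (⇑Q)

/-- The matrix of an isometry. -/
def isoMat (g : Cfsg.isometryGroup F (⇑Q)) : Matrix ι ι F := ((g : GL ι F) : Matrix ι ι F)

/-- `g - 1` as a linear map. -/
noncomputable def nilOf (g : Cfsg.isometryGroup F (⇑Q)) : (ι → F) →ₗ[F] (ι → F) := Matrix.mulVecLin (isoMat g - 1)

/-- The rank of `g - 1`. -/
noncomputable def rk (g : Cfsg.isometryGroup F (⇑Q)) : ℕ := (isoMat g - 1).rank

/-- The values on `range (g - 1)` vanish. -/
def AltInv (g : Cfsg.isometryGroup F (⇑Q)) : Prop := ∀ v, Q (nilOf g v) = 0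

theorem rk_eq (g : OQ) : rk g = finrank F (LinearMap.range (nilOf g)) := rfl

theorem nilOf_apply (g : OQ) (v : ι → F) : nilOf g v = isoMat g *ᵥ v + v := by
  rw [nilOf, Matrix.mulVecLin_apply, Matrix.sub_mulVec, Matrix.one_mulVec, v_sub_eq_add Q]

theorem act_eq (g : OQ) (v : ι → F) : (isoEquiv Q g).1 v = v + nilOf g v := by
  rw [isoEquiv_apply, nilOf_apply, add_comm (isoMat g *ᵥ v) v, ← add_assoc, ← v_sub_eq_add Q v v, sub_self, zero_add]
  rfl

theorem self_add (v : ι → F) : v + v = 0 := funext fun _ => CharTwo.add_self_eq_zero _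

theorem isInv_nilOf {g : OQ} (hg : g * g = 1) : IsInv Q (nilOf g) := by
  have hmm : ∀ v, isoMat g *ᵥ (isoMat g *ᵥ v) = v := fun v => by
    rw [Matrix.mulVec_mulVec, isoMat, ← Units.val_mul, ← Subgroup.coe_mul, hg]
    simp
  refine ⟨fun v => ?_, fun v => ?_⟩
  · rw [nilOf_apply, nilOf_apply, Matrix.mulVec_add, hmm, add_comm (isoMat g *ᵥ v) v]
    exact self_add _
  · have h1 : Q (isoMat g *ᵥ v) = Q v := mem_isometryGroup.1 g.2 v
    rw [nilOf_apply, q_add, h1, CharTwo.add_self_eq_zero, zero_add, b_add_right, b_self, CharTwo.two_eq_zero, zero_mul,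
      add_zero, b_comm]

theorem nilOf_eq_of (g : OQ) {N : (ι → F) →ₗ[F] (ι → F)} (h : ∀ v, (isoEquiv Q g).1 v = v + N v) : nilOf g = N :=
  LinearMap.ext fun v => add_left_cancel ((act_eq g v).symm.trans (h v))

theorem exists_of_isInv {N : (ι → F) →ₗ[F] (ι → F)} (hN : IsInv Q N) :
    ∃ g : OQ, g * g = 1 ∧ nilOf g = N := by
  have hmap : ∀ v, (LinearMap.id + N : (ι → F) →ₗ[F] (ι → F)) ((LinearMap.id + N : (ι → F) →ₗ[F] (ι → F)) v) = v := by
    intro v
    show (v + N v) + N (v + N v) = v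
    rw [map_add, hN.sq, add_zero, add_assoc, self_add, add_zero]
  let e : (ι → F) ≃ₗ[F] (ι → F) := LinearEquiv.ofInvolutive (LinearMap.id + N) hmap
  have he : e ∈ oGroup Q := fun v => by
    show Q (v + N v) = Q v
    rw [q_add, hN.val, add_assoc, CharTwo.add_self_eq_zero, add_zero]
  refine ⟨(isoEquiv Q).symm ⟨e, he⟩, ?_, ?_⟩
  · apply (isoEquiv Q).injective
    rw [map_mul, map_one, MulEquiv.apply_symm_apply]
    exact Subtype.ext (LinearEquiv.ext fun v => hmap v)
  · refine nilOf_eq_of _ fun v => ?_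
    rw [MulEquiv.apply_symm_apply]
    rfl

theorem eq_one_iff_rk (g : OQ) : g = 1 ↔ rk g = 0 := by
  rw [rk_eq, Submodule.finrank_eq_zero, LinearMap.range_eq_bot]
  constructor
  · rintro rfl
    exact nilOf_eq_of _ fun v => by simp
  · intro h
    apply (isoEquiv Q).injective
    refine Subtype.ext (LinearEquiv.ext fun v => ?_)
    rw [act_eq, h, map_one]
    simp

theorem orderOf_two_iff (g : OQ) : orderOf g = 2 ↔ g * g = 1 ∧ rk g ≠ 0 := by
  haveI : Fact (Nat.Prime 2) := ⟨Nat.prime_two⟩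
  rw [orderOf_eq_prime_iff, pow_two, ne_eq (rk g), ← eq_one_iff_rk]

theorem intertwine {g h u : OQ} (hu : u * g = h * u) (v : ι → F) :
    (isoEquiv Q u).1 (nilOf g v) = nilOf h ((isoEquiv Q u).1 v) := by
  have e := congrArg (fun x : OQ => (isoEquiv Q x).1 v) hu
  simp only [map_mul, Subgroup.coe_mul, LinearEquiv.mul_apply, act_eq g, act_eq h, map_add] at e
  exact add_left_cancel e

theorem conj_invariants {g h u : OQ} (hu : u * g = h * u) : rk g = rk h ∧ (AltInv g ↔ AltInv h) := by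
  set e := (isoEquiv Q u).1 with he
  have hr : (LinearMap.range (nilOf g)).map (e : (ι → F) →ₗ[F] (ι → F)) = LinearMap.range (nilOf h) := by
    ext w
    constructor
    · rintro ⟨_, ⟨v, rfl⟩, rfl⟩
      exact ⟨e v, (intertwine hu v).symm⟩
    · rintro ⟨v, rfl⟩
      refine ⟨nilOf g (e.symm v), ⟨_, rfl⟩, ?_⟩
      show e (nilOf g (e.symm v)) = _
      rw [he, intertwine hu, ← he, LinearEquiv.apply_symm_apply]
  refine ⟨?_, fun hg v => ?_, fun hh v => ?_⟩
  · rw [rk_eq, rk_eq, ← hr, LinearEquiv.finrank_map_eq]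
  · rw [← e.apply_symm_apply v, he, ← intertwine hu, (isoEquiv Q u).2, hg]
  · rw [← (isoEquiv Q u).2, intertwine hu, hh]

variable (hQ : (polarBilin Q).Nondegenerate)
include hQ

/-- Involutions with the same invariants are conjugate. -/
theorem exists_conj {g h : OQ} (hg : g * g = 1) (hh : h * h = 1) (hr : rk g = rk h) (ha : AltInv g ↔ AltInv h) :
    ∃ u : OQ, u * g = h * u := by
  classical
  have hN := isInv_nilOf hg
  have hN' := isInv_nilOf hh
  have fin : (∃ e ∈ oGroup Q, ∀ v, e (nilOf g v) = nilOf h (e v)) → ∃ u : OQ, u * g = h * u := by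
    rintro ⟨e, he, hcomm⟩
    refine ⟨(isoEquiv Q).symm ⟨e, he⟩, (isoEquiv Q).injective ?_⟩
    rw [map_mul, map_mul, MulEquiv.apply_symm_apply]
    refine Subtype.ext (LinearEquiv.ext fun v => ?_)
    simp only [Subgroup.coe_mul, LinearEquiv.mul_apply, act_eq g, act_eq h, map_add, hcomm]
  rw [rk_eq, rk_eq] at hr
  by_cases halt : AltInv g
  · obtain ⟨k, x, hk, hx⟩ := exists_frame_alt hQ hN halt
    obtain ⟨k', y, hk', hy⟩ := exists_frame_alt hQ hN' (ha.1 halt)
    obtain rfl : k = k' := by omega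
    exact fin (conj_of_frames hQ hN hN' (Matrix.isUnit_det_J (Fin k) F) (by simp; omega) (by simp; omega) hx hy)
  have hna : ∃ v, Q (nilOf g v) ≠ 0 := not_forall.1 halt
  have hna' : ∃ v, Q (nilOf h v) ≠ 0 := not_forall.1 fun h => halt (ha.2 h)
  have fin' : ∀ (c : F) (x : Fin (finrank F (LinearMap.range (nilOf g))) → (ι → F))
      (y : Fin (finrank F (LinearMap.range (nilOf h))) → (ι → F)),
      Frame Q (nilOf g) (1 : Matrix _ _ F) (stdVal _ c) x → Frame Q (nilOf h) (1 : Matrix _ _ F) (stdVal _ c) y →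
      ∃ u : OQ, u * g = h * u := by
    generalize hs : finrank F (LinearMap.range (nilOf g)) = s
    generalize hs' : finrank F (LinearMap.range (nilOf h)) = s'
    obtain rfl : s = s' := by omega
    exact fun c x y hx hy => fin (conj_of_frames hQ hN hN' (by simp) (by simpa using hs.symm) (by simpa using hs'.symm) hx hy)
  by_cases hlt : 2 * finrank F (LinearMap.range (nilOf g)) < finrank F (ι → F)
  · obtain ⟨x, hx⟩ := exists_frame_zero hQ hN hna hlt
    obtain ⟨y, hy⟩ := exists_frame_zero hQ hN' hna' (hr ▸ hlt)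
    exact fin' 0 x y hx hy
  obtain ⟨ζ, hζ⟩ := LBSpOrth.exists_nonsplit (F := F)
  obtain ⟨c, x, hc, hx⟩ := exists_frame_odd hQ hN hna ζ hζ
  obtain ⟨c', y, hc', hy⟩ := exists_frame_odd hQ hN' hna' ζ hζ
  have hfull : 2 * finrank F (LinearMap.range (nilOf g)) = finrank F (ι → F) := by
    have := frame_card_le hN (by simp) hx
    simp at this ⊢
    simp at hlt
    omega
  have sing : ∀ {N : (ι → F) →ₗ[F] (ι → F)} {s : ℕ} {x : Fin s → (ι → F)}, IsInv Q N →
      Frame Q N (1 : Matrix _ _ F) (stdVal s 0) x →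
      ∃ W : Submodule F (ι → F), (∀ w ∈ W, Q w = 0) ∧ finrank F W = s := by
    intro N s x hN hx
    refine ⟨Submodule.span F (Set.range x), ?_, ?_⟩
    · intro w hw
      obtain ⟨d, rfl⟩ := (Submodule.mem_span_range_iff_exists_fun F).1 hw
      rw [q_sum_orth hx.orth]
      exact Finset.sum_eq_zero fun i _ => by rw [hx.value]; simp [stdVal]
    · exact (finrank_span_eq_card (b := x) ((frame_indep hN (by simp) hx).comp Sum.inl Sum.inl_injective)).trans
        (Fintype.card_fin s)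
  have key : c = c' := by
    rcases hc with rfl | rfl <;> rcases hc' with rfl | rfl <;> try rfl
    · obtain ⟨W, hW, hWs⟩ := sing hN hx
      have hy0 := value_zero hQ hN' hζ (Or.inr rfl) hy (by omega) hW (by omega)
      rcases Nat.eq_zero_or_pos (finrank F (LinearMap.range (nilOf h))) with h0 | h0
      · exact absurd (fun v => by
          rw [Submodule.finrank_eq_zero, LinearMap.range_eq_bot] at h0
          rw [h0]; simp) (not_forall.2 hna')
      · have := congrFun hy0 ⟨0, h0⟩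
        simpa [stdVal] using this.symm
    · obtain ⟨W, hW, hWs⟩ := sing hN' hy
      have hx0 := value_zero hQ hN hζ (Or.inr rfl) hx (by omega) hW (by omega)
      rcases Nat.eq_zero_or_pos (finrank F (LinearMap.range (nilOf g))) with h0 | h0
      · exact absurd (fun v => by
          rw [Submodule.finrank_eq_zero, LinearMap.range_eq_bot] at h0
          rw [h0]; simp) (not_forall.2 hna)
      · have := congrFun hx0 ⟨0, h0⟩
        simpa [stdVal] using this
  subst key
  exact fin' c x y hx hy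

theorem isConj_iff_inv {g h : OQ} (hg : g * g = 1) (hh : h * h = 1) :
    IsConj g h ↔ rk g = rk h ∧ (AltInv g ↔ AltInv h) := by
  rw [isConj_iff]
  constructor
  · rintro ⟨u, hu⟩
    exact conj_invariants (u := u) (mul_inv_eq_iff_eq_mul.1 hu)
  · rintro ⟨hr, ha⟩
    obtain ⟨u, hu⟩ := exists_conj hQ hg hh hr ha
    exact ⟨u, mul_inv_eq_iff_eq_mul.2 hu⟩

theorem rk_le {g : OQ} (hg : g * g = 1) : 2 * rk g ≤ Fintype.card ι := by
  have hN := isInv_nilOf hg
  have hle : LinearMap.range (nilOf g) ≤ LinearMap.ker (nilOf g) := by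
    rintro _ ⟨v, rfl⟩; exact hN.sq v
  have := Submodule.finrank_mono hle
  have h2 := LinearMap.finrank_range_add_finrank_ker (nilOf g)
  rw [Module.finrank_fintype_fun_eq_card] at h2
  rw [rk_eq]
  omega

theorem alt_even {g : OQ} (hg : g * g = 1) (halt : AltInv g) : Even (rk g) := by
  obtain ⟨k, x, hk, -⟩ := exists_frame_alt hQ (isInv_nilOf hg) halt
  exact ⟨k, by rw [rk_eq, hk]; omega⟩

section omega

variable (hn : 2 ≤ Fintype.card ι) (hne : Fintype.card F ≠ 2 ∨ Fintype.card ι ≠ 4)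
include hn hne

/-- An involution lies in Ω exactly when the rank of `g - 1` is even. -/
theorem mem_omega_iff {g : OQ} (hg : g * g = 1) : g ∈ Cfsg.Omega F (⇑Q) ↔ Even (rk g) := by
  have hfr : finrank F (ι → F) = Fintype.card ι := Module.finrank_fintype_fun_eq_card F
  obtain ⟨χ, hker, -, hχ⟩ := exists_matrix_spinor Q hQ hn hne
  have hh := chi_invol hQ (by rw [hfr]; exact hne) (χ.comp (isoEquiv Q).symm.toMonoidHom) (fun r v hr => by
    refine hχ _ v hr.1 ((eq_reflectionMatrix_iff Q hr.1 _).2 ?_)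
    show IsRefl (isoEquiv Q ((isoEquiv Q).symm r)).1 Q v
    rwa [MulEquiv.apply_symm_apply]) (isInv_nilOf hg) (g := isoEquiv Q g) (act_eq g)
  rw [MonoidHom.comp_apply, MulEquiv.coe_toMonoidHom, MulEquiv.symm_apply_apply] at hh
  rw [← hker, MonoidHom.mem_ker, hh, Prod.mk_eq_one, ← rk_eq, ← ofAdd_zero, Equiv.apply_eq_iff_eq,
    ZMod.natCast_eq_zero_iff_even]
  simp

theorem chi_refl : ∃ χ : OQ →* SpinVal F, χ.ker = Cfsg.Omega F (⇑Q) ∧
    ∀ (r : OQ) (a : ι → F), IsRefl (isoEquiv Q r).1 Q a → χ r = (Multiplicative.ofAdd 1, 1) := by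
  obtain ⟨χ, hker, -, hχ⟩ := exists_matrix_spinor Q hQ hn hne
  refine ⟨χ, hker, fun r a hr => ?_⟩
  rw [hχ r a hr.1 ((eq_reflectionMatrix_iff Q hr.1 r).2 hr)]
  haveI : Subsingleton (SqCls F) := (Nat.card_eq_one_iff_unique.1 ((card_sqCls_le).2.2 CharTwo.two_eq_zero)).1
  exact Prod.ext rfl (Subsingleton.elim _ _)

theorem refl_not_mem {r : OQ} {a : ι → F} (hr : IsRefl (isoEquiv Q r).1 Q a) : r ∉ Cfsg.Omega F (⇑Q) := by
  obtain ⟨χ, hker, hval⟩ := chi_refl hQ hn hne
  rw [← hker, MonoidHom.mem_ker, hval r a hr, Prod.mk_eq_one]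
  exact fun h => absurd h.1 (by decide)

theorem mul_refl_mem {r u : OQ} {a : ι → F} (hr : IsRefl (isoEquiv Q r).1 Q a) (hu : u ∉ Cfsg.Omega F (⇑Q)) :
    u * r ∈ Cfsg.Omega F (⇑Q) := by
  obtain ⟨χ, hker, hval⟩ := chi_refl hQ hn hne
  rw [← hker, MonoidHom.mem_ker] at hu ⊢
  rw [map_mul, hval r a hr]
  haveI : Subsingleton (SqCls F) := (Nat.card_eq_one_iff_unique.1 ((card_sqCls_le).2.2 CharTwo.two_eq_zero)).1
  rcases hp : χ u with ⟨p, c⟩
  rw [hp] at hu
  have hp1 : p ≠ 1 := fun e => hu (by rw [e, Subsingleton.elim c 1]; rfl)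
  exact Prod.ext ((show ∀ x : Multiplicative (ZMod 2), x ≠ 1 → x * Multiplicative.ofAdd 1 = 1 by decide) p hp1)
    (Subsingleton.elim _ _)

theorem conj_omega_of_fixed {g h u : OQ} (hu : u * g = h * u) {a : ι → F} (ha : Q a ≠ 0) (hfix : nilOf g a = 0) :
    ∃ u' ∈ Cfsg.Omega F (⇑Q), u' * g * u'⁻¹ = h := by
  by_cases hmem : u ∈ Cfsg.Omega F (⇑Q)
  · exact ⟨u, hmem, mul_inv_eq_iff_eq_mul.2 hu⟩
  obtain ⟨r, -, hr⟩ := exists_reflection Q ha
  refine ⟨u * r, mul_refl_mem hQ hn hne hr hmem, mul_inv_eq_iff_eq_mul.2 ?_⟩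
  have hcomm : r * g = g * r := by
    apply (isoEquiv Q).injective
    refine Subtype.ext (LinearEquiv.ext fun v => ?_)
    have hga : (isoEquiv Q g).1 a = a := by rw [act_eq, hfix, add_zero]
    simp only [map_mul, Subgroup.coe_mul, LinearEquiv.mul_apply, hr.2, map_sub, map_smul, hga]
    congr 2
    conv_rhs => rw [← b_map (isoEquiv Q g).2 v a, hga]
  rw [mul_assoc, hcomm, ← mul_assoc, hu, mul_assoc]

theorem omega_stab {n : ℕ} (hV : Fintype.card ι = 2 * n) {W : Submodule F (ι → F)} (hW : IsMaxSing Q n W) (g : OQ) :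
    g ∈ Cfsg.Omega F (⇑Q) ↔
      Even (n + finrank F ↥(W ⊓ W.map ((isoEquiv Q g).1 : (ι → F) →ₗ[F] (ι → F)))) := by
  classical
  have hV' : finrank F (ι → F) = 2 * n := by rw [Module.finrank_fintype_fun_eq_card, hV]
  obtain ⟨χ, hker, hval⟩ := chi_refl hQ hn hne
  have hmax : ∀ x : OQ, IsMaxSing Q n (W.map ((isoEquiv Q x).1 : (ι → F) →ₗ[F] (ι → F))) := fun x =>
    ⟨by rw [LinearEquiv.finrank_map_eq, hW.1], by
      rintro _ ⟨w, hw, rfl⟩
      rw [LinearEquiv.coe_coe, (isoEquiv Q x).2, hW.2 w hw]⟩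
  let P : OQ → Prop := fun x => χ x = (Multiplicative.ofAdd ((n + finrank F ↥(W ⊓ W.map
    ((isoEquiv Q x).1 : (ι → F) →ₗ[F] (ι → F))) : ℕ) : ZMod 2), 1)
  have h1 : P 1 := by
    show χ 1 = _
    rw [map_one, map_one, OneMemClass.coe_one]
    rw [show (((1 : (ι → F) ≃ₗ[F] (ι → F)) : (ι → F) →ₗ[F] (ι → F))) = LinearMap.id from rfl, Submodule.map_id, inf_idem,
      hW.1, Nat.cast_add, CharTwo.add_self_eq_zero]
    rfl
  have hstep : ∀ r x : OQ, (∃ a, IsRefl (isoEquiv Q r).1 Q a) → P x → P (r * x) := by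
    rintro r x ⟨a, hr⟩ hx
    show χ (r * x) = _
    rw [map_mul, hval r a hr, show χ x = _ from hx, Prod.mk_mul_mk, one_mul, ← ofAdd_add]
    congr 2
    set X := W.map ((isoEquiv Q x).1 : (ι → F) →ₗ[F] (ι → F)) with hX
    have hY : W.map ((isoEquiv Q (r * x)).1 : (ι → F) →ₗ[F] (ι → F)) =
        X.map ((isoEquiv Q r).1 : (ι → F) →ₗ[F] (ι → F)) := by
      rw [hX, ← Submodule.map_comp, map_mul]; rfl
    have hYmax := hmax (r * x)
    rw [hY] at hYmax ⊢
    have hpar := max_singular_parity hQ hV' hW (hmax x) hYmax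
    rw [← hX] at hpar
    let φ : X →ₗ[F] F := (polarBilin Q a).comp X.subtype
    have hXY : X ⊓ X.map ((isoEquiv Q r).1 : (ι → F) →ₗ[F] (ι → F)) = (LinearMap.ker φ).map X.subtype := by
      ext w
      constructor
      · rintro ⟨hw, v, hv, rfl⟩
        have e : polar Q v a = 0 := by
          by_contra hne'
          refine hr.1 ((hmax x).2 a ?_)
          have hd : (polar Q v a / Q a) • a ∈ X := by
            have hd' := X.sub_mem hv hw
            rwa [LinearEquiv.coe_coe, hr.2, sub_sub_cancel] at hd'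
          have := X.smul_mem (polar Q v a / Q a)⁻¹ hd
          rwa [smul_smul, inv_mul_cancel₀ (div_ne_zero hne' hr.1), one_smul] at this
        rw [LinearEquiv.coe_coe, hr.fix e]
        exact ⟨⟨v, hv⟩, (show polar Q a v = 0 by rw [b_comm, e]), rfl⟩
      · rintro ⟨⟨v, hv⟩, hk, rfl⟩
        have e : polar Q v a = 0 := by rw [b_comm]; exact hk
        exact ⟨hv, v, hv, hr.fix e⟩
    have hφ : φ ≠ 0 := by
      intro h
      refine hr.1 ((hmax x).2 a ?_)
      have hXm := hmax x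
      rw [← hX] at hXm
      rw [← hX, ← hXm.perp_eq hQ hV']
      intro b hb
      rw [b_comm]
      exact LinearMap.congr_fun h ⟨b, hb⟩
    have hsurj : LinearMap.range φ = ⊤ := LinearMap.range_eq_top.2 (LinearMap.surjective hφ)
    have hk := LinearMap.finrank_range_add_finrank_ker φ
    rw [hsurj, finrank_top, Module.finrank_self, (hmax x).1] at hk
    have hXYd : finrank F ↥(X ⊓ X.map ((isoEquiv Q r).1 : (ι → F) →ₗ[F] (ι → F))) = finrank F (LinearMap.ker φ) := by
      rw [hXY]; exact Submodule.finrank_map_subtype_eq _ _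
    have l1 := Submodule.finrank_mono (inf_le_left : W ⊓ X ≤ W)
    have l2 := Submodule.finrank_mono (inf_le_left : W ⊓ X.map ((isoEquiv Q r).1 : (ι → F) →ₗ[F] (ι → F)) ≤ W)
    rw [hW.1] at l1 l2
    obtain ⟨d, hd⟩ := hpar
    rw [show (1 : ZMod 2) = ((1 : ℕ) : ZMod 2) from Nat.cast_one.symm, ← Nat.cast_add, ZMod.natCast_eq_natCast_iff']
    omega
  have hall : ∀ x, P x := fun x => by
    have hx : x ∈ Subgroup.closure {g : ↥(Cfsg.isometryGroup F (⇑Q)) | ∃ v : ι → F, Q v ≠ 0 ∧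
        ((g : GL ι F) : Matrix ι ι F) = Cfsg.reflectionMatrix (⇑Q) v} := by
      rw [closure_reflections_eq_top Q hQ hne]; exact Subgroup.mem_top x
    induction hx using Subgroup.closure_induction_left with
    | one => exact h1
    | mul_left y hy z _ hz =>
      obtain ⟨v, hv, hyv⟩ := hy
      exact hstep y z ⟨v, (eq_reflectionMatrix_iff Q hv y).1 hyv⟩ hz
    | inv_mul_cancel y hy z _ hz =>
      obtain ⟨v, hv, hyv⟩ := hy
      have hr := (eq_reflectionMatrix_iff Q hv y).1 hyv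
      have hinv : y⁻¹ = y := inv_eq_of_mul_eq_one_left ((isoEquiv Q).injective (Subtype.ext (by
        rw [map_mul, map_one]; exact hr.mul_self)))
      rw [hinv]
      exact hstep y z ⟨v, hr⟩ hz
  rw [← hker, MonoidHom.mem_ker, show χ g = _ from hall g, Prod.mk_eq_one, ← ofAdd_zero, Equiv.apply_eq_iff_eq,
    ZMod.natCast_eq_zero_iff_even]
  simp

/-- Splitting of a class of Ω. -/
theorem conj_omega_split {n : ℕ} (hV : Fintype.card ι = 2 * n) {g h u : OQ} (hg : g * g = 1) (hu : u * g = h * u)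
    (halt : AltInv g) (hr : rk g = n) :
    (∃ u' ∈ Cfsg.Omega F (⇑Q), u' * g * u'⁻¹ = h) ↔
      Even (n + finrank F ↥(LinearMap.range (nilOf g) ⊓ LinearMap.range (nilOf h))) := by
  have hW : IsMaxSing Q n (LinearMap.range (nilOf g)) := ⟨hr, by rintro _ ⟨v, rfl⟩; exact halt v⟩
  have key : ∀ w : OQ, w * g = h * w →
      (LinearMap.range (nilOf g)).map ((isoEquiv Q w).1 : (ι → F) →ₗ[F] (ι → F)) = LinearMap.range (nilOf h) := by
    intro w hw
    ext z
    constructor
    · rintro ⟨_, ⟨v, rfl⟩, rfl⟩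
      exact ⟨(isoEquiv Q w).1 v, (intertwine hw v).symm⟩
    · rintro ⟨v, rfl⟩
      refine ⟨nilOf g ((isoEquiv Q w).1.symm v), ⟨_, rfl⟩, ?_⟩
      show (isoEquiv Q w).1 (nilOf g ((isoEquiv Q w).1.symm v)) = _
      rw [intertwine hw, LinearEquiv.apply_symm_apply]
  constructor
  · rintro ⟨w, hw, hwg⟩
    have := (omega_stab hQ hn hne hV hW w).1 hw
    rwa [key w (mul_inv_eq_iff_eq_mul.1 hwg)] at this
  · intro he
    exact ⟨u, (omega_stab hQ hn hne hV hW u).2 (by rw [key u hu]; exact he), mul_inv_eq_iff_eq_mul.2 hu⟩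

end omega

end Cfsg.Agent.OrthInv2
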