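/-
Counting classes of involutions from orthogonal families of vectors.
-/
import Cfsg.Agent.Lib.Orthogonal.CharTwoInv.Classes

set_option autoImplicit false

namespace Cfsg.Agent.OrthInv2

open QuadraticMap Module Cfsg.Agent.Orth Matrix

variable {F : Type*} [Field F] [CharP F 2] [Fintype F] {ι : Type} [Fintype ι] [DecidableEq ι]
  {Q : QuadraticForm F (ι → F)}

theorem isConj_iff_polar (hQ : (polarBilin Q).Nondegenerate) {t s : Cfsg.isometryGroup F (⇑Q)} (ht : t * t = 1)
    (hs : s * s = 1) :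
    IsConj t s ↔ ∃ g ∈ Cfsg.preserving (Units.coeHom (Matrix ι ι F)) (fun u v => Q (u + v) - Q u - Q v),
      g * (t : GL ι F) * g⁻¹ = (s : GL ι F) := by
  constructor
  · intro h
    obtain ⟨u, hu⟩ := isConj_iff.1 h
    refine ⟨u.1, fun x y => ?_, congrArg Subtype.val hu⟩
    exact b_map (isoEquiv Q u).2 x y
  · rintro ⟨g, hg, he⟩
    rw [isConj_iff_inv hQ ht hs]
    set e := glEquiv ι F g with hedef
    have hpol : ∀ x y, polar Q (e x) (e y) = polar Q x y := fun x y => hg x y
    have hmul : g * (t : GL ι F) = (s : GL ι F) * g := mul_inv_eq_iff_eq_mul.1 he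
    have hint : ∀ v, e (nilOf t v) = nilOf s (e v) := fun v => by
      have h1 := congrArg (fun x : GL ι F => (x : Matrix ι ι F) *ᵥ v) hmul
      simp only [Units.val_mul, ← Matrix.mulVec_mulVec] at h1
      rw [nilOf_apply, nilOf_apply, map_add, hedef, glEquiv_apply, glEquiv_apply, isoMat, isoMat, h1]
    have hr : (LinearMap.range (nilOf t)).map (e : (ι → F) →ₗ[F] (ι → F)) = LinearMap.range (nilOf s) := by
      ext w
      constructor
      · rintro ⟨_, ⟨v, rfl⟩, rfl⟩
        exact ⟨e v, (hint v).symm⟩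
      · rintro ⟨v, rfl⟩
        refine ⟨nilOf t (e.symm v), ⟨_, rfl⟩, ?_⟩
        show e (nilOf t (e.symm v)) = _
        rw [hint, LinearEquiv.apply_symm_apply]
    have hval : ∀ v, Q (nilOf t v) = Q (nilOf s (e v)) := fun v => by
      rw [(isInv_nilOf ht).val, (isInv_nilOf hs).val, ← hint, hpol]
    refine ⟨by rw [rk_eq, rk_eq, ← hr, LinearEquiv.finrank_map_eq], fun h v => ?_, fun h v => ?_⟩
    · rw [← e.apply_symm_apply v, ← hval]; exact h _
    · rw [hval]; exact h _

/-- Orthogonal families: `n` vectors of value one and `2 * l` singular vectors, which bound the invariants. -/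
structure Families (Q : QuadraticForm F (ι → F)) (n l : ℕ) : Prop where
  nondeg : (polarBilin Q).Nondegenerate
  card : Fintype.card ι = 2 * n
  le : 2 * l ≤ n
  unit : ∃ p : Fin n → ι → F, LinearIndependent F p ∧ (∀ i j, polar Q (p i) (p j) = 0) ∧ ∀ i, Q (p i) = 1
  sing : ∃ p : Fin (2 * l) → ι → F, LinearIndependent F p ∧ (∀ i j, polar Q (p i) (p j) = 0) ∧ ∀ i, Q (p i) = 0
  bound : ∀ g : Cfsg.isometryGroup F (⇑Q), g * g = 1 → AltInv g → rk g ≤ 2 * l

variable {n l : ℕ} (hF : Families Q n l)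
include hF

theorem exists_model_unit (s : ℕ) (hs : s ≤ n) (hs1 : 1 ≤ s) :
    ∃ g : Cfsg.isometryGroup F (⇑Q), g * g = 1 ∧ rk g = s ∧ ¬ AltInv g := by
  obtain ⟨p, hli, hort, hval⟩ := hF.unit
  let z : Fin s → ι → F := fun i => p (Fin.castLE hs i)
  have hliz : LinearIndependent F z := hli.comp _ (Fin.castLE_injective hs)
  have hN := famMap_isInv (Q := Q) (z := z) id (fun _ => rfl) (fun i j => hort _ _) fun i => by simp [z, hval]
  obtain ⟨g, hg, hgN⟩ := exists_of_isInv hN
  refine ⟨g, hg, ?_, ?_⟩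
  · rw [rk_eq, hgN, (famMap_rank hF.nondeg id Function.bijective_id hliz).1, Fintype.card_fin]
  · intro halt
    have h : ∀ v, Q (famMap Q z id v) = 0 := fun v => by rw [← hgN]; exact halt v
    have h1 := (alt_famMap_iff hF.nondeg id Function.bijective_id hliz fun i j => hort _ _).1 h ⟨0, hs1⟩
    exact one_ne_zero ((hval _).symm.trans h1)

theorem exists_model_sing (k : ℕ) (hk : k ≤ l) :
    ∃ g : Cfsg.isometryGroup F (⇑Q), g * g = 1 ∧ rk g = 2 * k ∧ AltInv g := by
  obtain ⟨p, hli, hort, hval⟩ := hF.sing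
  let e : Fin k ⊕ Fin k → Fin (2 * l) := fun i => Fin.castLE (by omega) (finSumFinEquiv i)
  let z : Fin k ⊕ Fin k → ι → F := fun i => p (e i)
  have hliz : LinearIndependent F z := hli.comp _ ((Fin.castLE_injective _).comp finSumFinEquiv.injective)
  have hτ : Function.Involutive (Sum.swap : Fin k ⊕ Fin k → Fin k ⊕ Fin k) := Sum.swap_swap
  have hN := famMap_isInv (Q := Q) (z := z) Sum.swap hτ (fun i j => hort _ _) fun i => by
    rcases i with i | i <;> simp [z, hval]
  obtain ⟨g, hg, hgN⟩ := exists_of_isInv hN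
  refine ⟨g, hg, ?_, ?_⟩
  · rw [rk_eq, hgN, (famMap_rank hF.nondeg Sum.swap hτ.bijective hliz).1]; simp; omega
  · intro v
    rw [hgN]
    exact (alt_famMap_iff hF.nondeg Sum.swap hτ.bijective hliz fun i j => hort _ _).2 (fun i => hval _) v

theorem rk_le_n {g : Cfsg.isometryGroup F (⇑Q)} (hg : g * g = 1) : rk g ≤ n := by
  have := rk_le hF.nondeg hg
  rw [hF.card] at this
  omega

/-- Classes of involutions of the orthogonal group. -/
theorem card_classes : Nat.card {C : ConjClasses ↥(Cfsg.isometryGroup F (⇑Q)) //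
    ∃ g : ↥(Cfsg.isometryGroup F (⇑Q)), ConjClasses.mk g = C ∧ orderOf g = 2} = n + l := by
  classical
  choose a ha ha' ha'' using fun i : Fin n => exists_model_unit hF (i.1 + 1) (by omega) (by omega)
  choose b hb hb' hb'' using fun j : Fin l => exists_model_sing hF (j.1 + 1) (by omega)
  let g : Fin n ⊕ Fin l → ↥(Cfsg.isometryGroup F (⇑Q)) := Sum.elim a b
  have hg : ∀ x, g x * g x = 1 := by rintro (i | j) <;> [exact ha i; exact hb j]
  have hord : ∀ x, orderOf (g x) = 2 := fun x => (orderOf_two_iff _).2 ⟨hg x, by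
    rcases x with i | j
    · show rk (a i) ≠ 0; rw [ha']; omega
    · show rk (b j) ≠ 0; rw [hb']; omega⟩
  let f : Fin n ⊕ Fin l → {C : ConjClasses ↥(Cfsg.isometryGroup F (⇑Q)) //
      ∃ g : ↥(Cfsg.isometryGroup F (⇑Q)), ConjClasses.mk g = C ∧ orderOf g = 2} :=
    fun x => ⟨ConjClasses.mk (g x), g x, rfl, hord x⟩
  have hbij : Function.Bijective f := by
    constructor
    · intro x y h
      obtain ⟨hr, halt⟩ := (isConj_iff_inv hF.nondeg (hg x) (hg y)).1
        (ConjClasses.mk_eq_mk_iff_isConj.1 (Subtype.ext_iff.1 h))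
      rcases x with i | j <;> rcases y with i' | j'
      · change rk (a i) = rk (a i') at hr
        rw [ha', ha'] at hr
        exact congrArg Sum.inl (Fin.ext (by omega))
      · exact absurd (halt.2 (hb'' j')) (ha'' i)
      · exact absurd (halt.1 (hb'' j)) (ha'' i')
      · change rk (b j) = rk (b j') at hr
        rw [hb', hb'] at hr
        exact congrArg Sum.inr (Fin.ext (by omega))
    · rintro ⟨C, x, rfl, hx⟩
      obtain ⟨hx1, hx0⟩ := (orderOf_two_iff x).1 hx
      have hxn := rk_le_n hF hx1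
      by_cases halt : AltInv x
      · have hb2 := hF.bound x hx1 halt
        obtain ⟨r, hr⟩ := alt_even hF.nondeg hx1 halt
        refine ⟨.inr ⟨r - 1, by omega⟩, Subtype.ext (ConjClasses.mk_eq_mk_iff_isConj.2
          ((isConj_iff_inv hF.nondeg (hg _) hx1).2 ⟨?_, iff_of_true (hb'' _) halt⟩))⟩
        show rk (b _) = rk x
        rw [hb']; simp only; omega
      · refine ⟨.inl ⟨rk x - 1, by omega⟩, Subtype.ext (ConjClasses.mk_eq_mk_iff_isConj.2
          ((isConj_iff_inv hF.nondeg (hg _) hx1).2 ⟨?_, iff_of_false (ha'' _) halt⟩))⟩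
        show rk (a _) = rk x
        rw [ha']; simp only; omega
  rw [← Nat.card_congr (Equiv.ofBijective f hbij), Nat.card_sum, Nat.card_fin, Nat.card_fin]

/-- Classes of involutions of Ω. -/
theorem card_classes_omega (hn1 : 1 ≤ n) (hne : Fintype.card F ≠ 2 ∨ Fintype.card ι ≠ 4) :
    Nat.card {C : ConjClasses ↥(Cfsg.Omega F (⇑Q)) //
      ∃ g : ↥(Cfsg.Omega F (⇑Q)), ConjClasses.mk g = C ∧ orderOf g = 2} =
      n / 2 + l + (if 2 * l = n then 1 else 0) := by
  classical
  have hn : 2 ≤ Fintype.card ι := by rw [hF.card]; omega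
  have hQ := hF.nondeg
  choose a ha ha' ha'' using fun i : Fin (n / 2) => exists_model_unit hF (2 * (i.1 + 1)) (by omega) (by omega)
  choose b hb hb' hb'' using fun j : Fin l => exists_model_sing hF (j.1 + 1) (by omega)
  have hzero : ∃ r : ↥(Cfsg.isometryGroup F (⇑Q)), ∃ v, IsRefl (isoEquiv Q r).1 Q v := by
    obtain ⟨p, -, -, hp⟩ := hF.unit
    obtain ⟨r, -, hr⟩ := exists_reflection Q (v := p ⟨0, hn1⟩) (by rw [hp]; exact one_ne_zero)
    exact ⟨r, _, hr⟩
  obtain ⟨r, v, hr⟩ := hzero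
  have hrr : r * r = 1 := (isoEquiv Q).injective (Subtype.ext (by rw [map_mul, map_one]; exact hr.mul_self))
  obtain ⟨δ, hδ⟩ : ∃ δ, (if 2 * l = n then 1 else 0) = δ := ⟨_, rfl⟩
  rw [hδ]
  have hlast : Fin δ → 0 < l ∧ 2 * l = n := fun t => by
    have := t.pos
    split_ifs at hδ with h <;> omega
  let x : Fin (n / 2) ⊕ Fin l ⊕ Fin δ → ↥(Cfsg.isometryGroup F (⇑Q)) :=
    Sum.elim a (Sum.elim b fun t => r * b ⟨l - 1, by have := hlast t; omega⟩ * r)
  have hx : ∀ z, x z * x z = 1 := by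
    rintro (i | j | t)
    · exact ha i
    · exact hb j
    · show r * b _ * r * (r * b _ * r) = 1
      simp only [mul_assoc]
      rw [← mul_assoc r r, hrr, one_mul, ← mul_assoc (b _) (b _), hb, one_mul, hrr]
  have hinv : ∀ t : Fin δ, rk (x (.inr (.inr t))) = n ∧ AltInv (x (.inr (.inr t))) := fun t => by
    obtain ⟨h0, h2⟩ := hlast t
    have hu : r * b ⟨l - 1, by omega⟩ = x (.inr (.inr t)) * r := by
      show _ = r * b _ * r * r
      rw [mul_assoc _ r r, hrr, mul_one]
    obtain ⟨e1, e2⟩ := conj_invariants hu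
    exact ⟨by rw [← e1, hb']; simp only; omega, e2.1 (hb'' _)⟩
  have hev : ∀ z, Even (rk (x z)) := by
    rintro (i | j | t)
    · show Even (rk (a i)); rw [ha']; exact even_two_mul _
    · show Even (rk (b j)); rw [hb']; exact even_two_mul _
    · exact alt_even hQ (hx _) (hinv t).2
  have hpos : ∀ z, rk (x z) ≠ 0 := by
    rintro (i | j | t)
    · show rk (a i) ≠ 0; rw [ha']; omega
    · show rk (b j) ≠ 0; rw [hb']; omega
    · rw [(hinv t).1]; omega
  let g : Fin (n / 2) ⊕ Fin l ⊕ Fin δ → ↥(Cfsg.Omega F (⇑Q)) :=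
    fun z => ⟨x z, (mem_omega_iff hQ hn hne (hx z)).2 (hev z)⟩
  have hord : ∀ z, orderOf (g z) = 2 := fun z => by
    rw [← Subgroup.orderOf_coe]; exact (orderOf_two_iff _).2 ⟨hx z, hpos z⟩
  let f : Fin (n / 2) ⊕ Fin l ⊕ Fin δ → {C : ConjClasses ↥(Cfsg.Omega F (⇑Q)) //
      ∃ g : ↥(Cfsg.Omega F (⇑Q)), ConjClasses.mk g = C ∧ orderOf g = 2} :=
    fun z => ⟨ConjClasses.mk (g z), g z, rfl, hord z⟩
  have hsub : ∀ p q : ↥(Cfsg.Omega F (⇑Q)),
      IsConj p q ↔ ∃ u ∈ Cfsg.Omega F (⇑Q), u * p.1 * u⁻¹ = q.1 := fun p q => by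
    rw [isConj_iff]
    exact ⟨fun ⟨u, hu⟩ => ⟨u.1, u.2, congrArg Subtype.val hu⟩, fun ⟨u, hu, e⟩ => ⟨⟨u, hu⟩, Subtype.ext e⟩⟩
  have hbij : Function.Bijective f := by
    constructor
    · intro z w h
      obtain ⟨u, hu, he⟩ := (hsub _ _).1 (ConjClasses.mk_eq_mk_iff_isConj.1 (Subtype.ext_iff.1 h))
      have he' : u * x z = x w * u := mul_inv_eq_iff_eq_mul.1 he
      obtain ⟨e1, e2⟩ := conj_invariants he'
      -- the twin is not conjugate to its original in Ω
      have twin : ∀ t : Fin δ, ¬ ∃ u' ∈ Cfsg.Omega F (⇑Q),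
          u' * b ⟨l - 1, by have := hlast t; omega⟩ * u'⁻¹ = x (.inr (.inr t)) := by
        rintro t ⟨u', hu', he''⟩
        obtain ⟨h0, h2⟩ := hlast t
        set B := b ⟨l - 1, by omega⟩ with hB
        have h3 : u' * B = r * B * r * u' := mul_inv_eq_iff_eq_mul.1 he''
        have hc : r * u' * B = B * (r * u') := by
          rw [mul_assoc, h3]
          simp only [mul_assoc]
          rw [← mul_assoc r r, hrr, one_mul]
        have hW : IsMaxSing Q n (LinearMap.range (nilOf B)) :=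
          ⟨by rw [← rk_eq, hB, hb']; simp only; omega, by rintro _ ⟨w, rfl⟩; exact hb'' _ w⟩
        have hmem : r * u' ∈ Cfsg.Omega F (⇑Q) := by
          rw [omega_stab hQ hn hne hF.card hW]
          have heq : (LinearMap.range (nilOf B)).map ((isoEquiv Q (r * u')).1 : (ι → F) →ₗ[F] (ι → F)) =
              LinearMap.range (nilOf B) := by
            refine Submodule.eq_of_le_of_finrank_eq ?_ (LinearEquiv.finrank_map_eq _ _)
            rintro _ ⟨_, ⟨w, rfl⟩, rfl⟩
            exact ⟨(isoEquiv Q (r * u')).1 w, (intertwine hc w).symm⟩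
          rw [heq, inf_idem, hW.1]
          exact ⟨n, rfl⟩
        exact refl_not_mem hQ hn hne hr ((Subgroup.mul_mem_cancel_right _ hu').1 hmem)
      rcases z with i | j | t <;> rcases w with i' | j' | t'
      · change rk (a i) = rk (a i') at e1
        rw [ha', ha'] at e1
        exact congrArg Sum.inl (Fin.ext (by omega))
      · exact absurd (e2.2 (hb'' j')) (ha'' i)
      · exact absurd (e2.2 (hinv t').2) (ha'' i)
      · exact absurd (e2.1 (hb'' j)) (ha'' i')
      · change rk (b j) = rk (b j') at e1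
        rw [hb', hb'] at e1
        exact congrArg (Sum.inr ∘ Sum.inl) (Fin.ext (by omega))
      · exfalso
        change rk (b j) = _ at e1
        rw [hb', (hinv t').1] at e1
        obtain ⟨h0, h2⟩ := hlast t'
        have hjl : j = ⟨l - 1, Nat.sub_lt h0 Nat.one_pos⟩ := Fin.ext (by simp only; omega)
        rw [hjl] at he
        exact twin t' ⟨u, hu, he⟩
      · exact absurd (e2.1 (hinv t).2) (ha'' i')
      · exfalso
        change _ = rk (b j') at e1
        rw [hb', (hinv t).1] at e1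
        obtain ⟨h0, h2⟩ := hlast t
        have hjl : j' = ⟨l - 1, Nat.sub_lt h0 Nat.one_pos⟩ := Fin.ext (by simp only; omega)
        rw [hjl] at he
        refine twin t ⟨u⁻¹, inv_mem hu, ?_⟩
        change u * x (.inr (.inr t)) * u⁻¹ = b ⟨l - 1, by omega⟩ at he
        rw [← he]
        group
      · refine congrArg (Sum.inr ∘ Sum.inr) (Fin.ext ?_)
        have h1 := t.2
        have h2 := t'.2
        split_ifs at hδ <;> omega
    · rintro ⟨C, ⟨y, hy⟩, rfl, hyo⟩
      rw [Subgroup.orderOf_mk] at hyo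
      obtain ⟨hy1, hy0⟩ := (orderOf_two_iff y).1 hyo
      obtain ⟨k, hk⟩ := (mem_omega_iff hQ hn hne hy1).1 hy
      have hyn := rk_le_n hF hy1
      have fin : ∀ z, (∃ u ∈ Cfsg.Omega F (⇑Q), u * x z * u⁻¹ = y) → ∃ z, f z =
          ⟨ConjClasses.mk (⟨y, hy⟩ : ↥(Cfsg.Omega F (⇑Q))), ⟨y, hy⟩, rfl, by rw [Subgroup.orderOf_mk]; exact hyo⟩ :=
        fun z h => ⟨z, Subtype.ext (ConjClasses.mk_eq_mk_iff_isConj.2 ((hsub _ _).2 h))⟩
      by_cases halt : AltInv y
      · have hb2 := hF.bound y hy1 halt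
        let j : Fin l := ⟨k - 1, by omega⟩
        obtain ⟨u, hu⟩ := exists_conj hQ (hb j) hy1 (by rw [hb']; simp only [j]; omega) (iff_of_true (hb'' j) halt)
        by_cases hlt : rk (b j) < n
        · obtain ⟨w, hw, hw0⟩ := exists_fixed hQ (isInv_nilOf (hb j))
            (by rw [Module.finrank_fintype_fun_eq_card, hF.card]) (Or.inr hlt)
          exact fin (.inr (.inl j)) (conj_omega_of_fixed hQ hn hne hu hw hw0)
        have hjn : rk (b j) = n := le_antisymm (rk_le_n hF (hb j)) (not_lt.1 hlt)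
        by_cases hmem : u ∈ Cfsg.Omega F (⇑Q)
        · exact fin (.inr (.inl j)) ⟨u, hmem, mul_inv_eq_iff_eq_mul.2 hu⟩
        · rw [hb'] at hjn
          simp only [j] at hjn
          have hle := hF.le
          have h2 : 2 * l = n := by omega
          have hδ1 : δ = 1 := by rw [← hδ, if_pos h2]
          refine fin (.inr (.inr ⟨0, by omega⟩)) ⟨u * r, mul_refl_mem hQ hn hne hr hmem, mul_inv_eq_iff_eq_mul.2 ?_⟩
          have hjeq : (⟨l - 1, by omega⟩ : Fin l) = j := Fin.ext (by simp only [j]; omega)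
          show u * r * (r * b _ * r) = _
          rw [hjeq]
          simp only [mul_assoc]
          rw [← mul_assoc r r, hrr, one_mul, ← mul_assoc u, hu, mul_assoc]
      · let i : Fin (n / 2) := ⟨k - 1, by omega⟩
        obtain ⟨u, hu⟩ := exists_conj hQ (ha i) hy1 (by rw [ha']; simp only [i]; omega) (iff_of_false (ha'' i) halt)
        obtain ⟨w, hw, hw0⟩ := exists_fixed hQ (isInv_nilOf (ha i))
          (by rw [Module.finrank_fintype_fun_eq_card, hF.card]) (Or.inl (not_forall.1 (ha'' i)))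
        exact fin (.inl i) (conj_omega_of_fixed hQ hn hne hu hw hw0)
  rw [← Nat.card_congr (Equiv.ofBijective f hbij), Nat.card_sum, Nat.card_sum, Nat.card_fin, Nat.card_fin,
    Nat.card_fin, add_assoc]

end Cfsg.Agent.OrthInv2
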