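/-
Orthogonal families of the standard forms of even dimension.
-/
import Cfsg.Agent.Lib.Orthogonal.CharTwoInv.Count
import Cfsg.Agent.Lib.Orthogonal.Counts

set_option autoImplicit false

namespace Cfsg.Agent.OrthInv2

open QuadraticMap Module Cfsg.Agent.Orth Matrix

variable {F : Type*} [Field F] [CharP F 2] [Fintype F]

omit [CharP F 2] [Fintype F] in
theorem polar_qPlus_eq {n : ℕ} (u v : Fin n ⊕ Fin n → F) :
    polar (qPlus F n) u v = ∑ i : Fin n, (u (.inl i) * v (.inr i) + u (.inr i) * v (.inl i)) := by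
  rw [polar, coe_qPlus]
  simp only [Cfsg.quadFormPlus, Pi.add_apply, ← Finset.sum_sub_distrib]
  exact Finset.sum_congr rfl fun i _ => by ring

omit [CharP F 2] [Fintype F] in
theorem polar_qMinus_eq {n : ℕ} (a b : F) (u v : (Fin n ⊕ Fin n) ⊕ Fin 2 → F) :
    polar (qMinus F n a b) u v =
      (∑ i : Fin n, (u (.inl (.inl i)) * v (.inl (.inr i)) + u (.inl (.inr i)) * v (.inl (.inl i)))) +
      (2 * u (.inr 0) * v (.inr 0) + a * (u (.inr 0) * v (.inr 1) + u (.inr 1) * v (.inr 0)) +
        2 * b * (u (.inr 1) * v (.inr 1))) := by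
  rw [polar, coe_qMinus]
  simp only [Cfsg.quadFormMinus, Pi.add_apply]
  have h : (∑ i : Fin n, (u (.inl (.inl i)) + v (.inl (.inl i))) * (u (.inl (.inr i)) + v (.inl (.inr i)))) =
      (∑ i : Fin n, u (.inl (.inl i)) * u (.inl (.inr i))) + (∑ i : Fin n, v (.inl (.inl i)) * v (.inl (.inr i))) +
      (∑ i : Fin n, (u (.inl (.inl i)) * v (.inl (.inr i)) + u (.inl (.inr i)) * v (.inl (.inl i)))) := by
    rw [← Finset.sum_add_distrib, ← Finset.sum_add_distrib]
    exact Finset.sum_congr rfl fun i _ => by ring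
  rw [h]
  ring

omit [CharP F 2] [Fintype F] in
theorem li_of_eval {ι : Type} {κ : Type} [Fintype κ] [DecidableEq κ] (p : κ → ι → F) (c : κ → ι)
    (h : ∀ i j, p i (c j) = if i = j then 1 else 0) : LinearIndependent F p := by
  rw [Fintype.linearIndependent_iff]
  intro g hg j
  have := congrFun hg (c j)
  simpa [Finset.sum_apply, h] using this

theorem families_plus (n : ℕ) : Families (qPlus F n) n (n / 2) where
  nondeg := qPlus_nondeg n
  card := by simp [two_mul]
  le := by omega
  unit := by
    refine ⟨fun i => Pi.single (.inl i) 1 + Pi.single (.inr i) 1, li_of_eval _ Sum.inl fun i j => ?_, fun i j => ?_,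
      fun i => ?_⟩
    · rcases eq_or_ne i j with rfl | hij <;> simp [Pi.single_apply, *, Ne.symm]
    · rw [polar_qPlus_eq]
      refine Finset.sum_eq_zero fun l _ => ?_
      simp [Pi.single_apply, CharTwo.add_self_eq_zero]
    · rw [coe_qPlus]; simp [Cfsg.quadFormPlus, Pi.single_apply, Finset.sum_ite_eq']
  sing := by
    refine ⟨fun i => Pi.single (.inl (Fin.castLE (by omega) i)) 1,
      li_of_eval _ (fun i => .inl (Fin.castLE (by omega) i)) fun i j => ?_, fun i j => ?_, fun i => ?_⟩
    · rcases eq_or_ne i j with rfl | hij <;> simp [Pi.single_apply, *, Ne.symm]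
    · rw [polar_qPlus_eq]
      refine Finset.sum_eq_zero fun l _ => ?_
      simp [Pi.single_apply]
    · rw [coe_qPlus]; simp [Cfsg.quadFormPlus, Pi.single_apply]
  bound := fun g hg halt => by
    have h1 := rk_le (qPlus_nondeg n) hg
    obtain ⟨r, hr⟩ := alt_even (qPlus_nondeg n) hg halt
    simp at h1
    omega

variable {a b : F} (hab : ∀ z₁ z₂ : F, z₁ ^ 2 + a * z₁ * z₂ + b * z₂ ^ 2 = 0 → z₁ = 0 ∧ z₂ = 0)
include hab

theorem singular_le_minus (n : ℕ) {W : Submodule F ((Fin n ⊕ Fin n) ⊕ Fin 2 → F)}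
    (hW : ∀ w ∈ W, qMinus F n a b w = 0) : finrank F W ≤ n := by
  classical
  let p : Fin n → ((Fin n ⊕ Fin n) ⊕ Fin 2 → F) := fun i => Pi.single (.inl (.inl i)) 1
  have hp : LinearIndependent F p := li_of_eval _ (fun i => .inl (.inl i)) fun i j => by
    rcases eq_or_ne i j with rfl | hij <;> simp [p, Pi.single_apply, *, Ne.symm]
  let X := Submodule.span F (Set.range p)
  have hX : ∀ w, w ∈ X ↔ (∀ i, w (.inl (.inr i)) = 0) ∧ ∀ k, w (.inr k) = 0 := by
    intro w
    constructor
    · intro hw
      induction hw using Submodule.span_induction with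
      | mem z hz => obtain ⟨i, rfl⟩ := hz; simp [p]
      | zero => simp
      | add u v _ _ hu hv => simp [hu, hv]
      | smul c u _ hu => simp [hu]
    · rintro ⟨h1, h2⟩
      have e : w = ∑ i, w (.inl (.inl i)) • p i := by
        funext l
        rcases l with (l | l) | l <;> simp [p, Finset.sum_apply, Pi.single_apply, h1, h2]
      rw [e]
      exact Submodule.sum_mem _ fun i _ => Submodule.smul_mem _ _ (Submodule.subset_span ⟨i, rfl⟩)
  have hXs : ∀ w ∈ X, qMinus F n a b w = 0 := fun w hw => by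
    obtain ⟨h1, h2⟩ := (hX w).1 hw
    rw [coe_qMinus]; simp [Cfsg.quadFormMinus, h1, h2]
  have hmax : ∀ W' : Submodule F ((Fin n ⊕ Fin n) ⊕ Fin 2 → F), X ≤ W' → (∀ w ∈ W', qMinus F n a b w = 0) → W' = X := by
    intro W' hle hW'
    refine le_antisymm (fun v hv => (hX v).2 ?_) hle
    have hr : ∀ i, v (.inl (.inr i)) = 0 := fun i => by
      have h := b_eq_zero_of_singular hW' (hle (Submodule.subset_span ⟨i, rfl⟩)) hv
      rw [polar_qMinus_eq] at h
      simpa [p, Pi.single_apply] using h
    have h := hW' v hv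
    rw [coe_qMinus] at h
    simp [Cfsg.quadFormMinus, hr] at h
    obtain ⟨h0, h1⟩ := hab _ _ h
    exact ⟨hr, fun k => by fin_cases k <;> assumption⟩
  refine (finrank_maximal_le (qMinus_nondeg hab n) hXs hW hmax).trans ?_
  rw [finrank_span_eq_card hp, Fintype.card_fin]

theorem families_minus (n : ℕ) : Families (qMinus F n a b) (n + 1) (n / 2) where
  nondeg := qMinus_nondeg hab n
  card := by simp; omega
  le := by omega
  unit := by
    classical
    let p : Fin (n + 1) → ((Fin n ⊕ Fin n) ⊕ Fin 2 → F) := Fin.lastCases (Pi.single (.inr 0) 1)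
      fun i => Pi.single (.inl (.inl i)) 1 + Pi.single (.inl (.inr i)) 1
    refine ⟨p, li_of_eval _ (Fin.lastCases (.inr 0) fun i => .inl (.inl i)) fun i j => ?_, fun i j => ?_, fun i => ?_⟩
    · induction i using Fin.lastCases <;> induction j using Fin.lastCases <;>
        simp [p, Pi.single_apply, Fin.castSucc_ne_last, (Fin.castSucc_ne_last _).symm, eq_comm]
    · rw [polar_qMinus_eq]
      induction i using Fin.lastCases <;> induction j using Fin.lastCases <;>
        simp [p, Pi.single_apply, CharTwo.two_eq_zero, CharTwo.add_self_eq_zero]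
    · rw [coe_qMinus]
      induction i using Fin.lastCases <;> simp [p, Cfsg.quadFormMinus, Pi.single_apply]
  sing := by
    refine ⟨fun i => Pi.single (.inl (.inl (Fin.castLE (by omega) i))) 1,
      li_of_eval _ (fun i => .inl (.inl (Fin.castLE (by omega) i))) fun i j => ?_, fun i j => ?_, fun i => ?_⟩
    · rcases eq_or_ne i j with rfl | hij <;> simp [Pi.single_apply, *, Ne.symm]
    · rw [polar_qMinus_eq]; simp [Pi.single_apply]
    · rw [coe_qMinus]; simp [Cfsg.quadFormMinus, Pi.single_apply]
  bound := fun g hg halt => by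
    have h1 : rk g ≤ n := singular_le_minus hab n (W := LinearMap.range (nilOf g)) (by rintro _ ⟨v, rfl⟩; exact halt v)
    obtain ⟨r, hr⟩ := alt_even (qMinus_nondeg hab n) hg halt
    omega

end Cfsg.Agent.OrthInv2
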