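/-
Counting bases with prescribed Gram matrix: symplectic and orthonormal ones.
-/
import Cfsg.Agent.Lib.LinearBlock.SpInvolutionClasses
import Mathlib.Data.Fin.Tuple.Basic

set_option autoImplicit false

universe u v

namespace Cfsg.Agent.InvCent

open Module
open LinearMap (BilinForm)

variable {F : Type u} [Field F] [Finite F]

/-- Number of orthonormal bases in dimension `r`. -/
def onCount (q : ℕ) : ℕ → ℕ
  | 0 => 1
  | 1 => 1
  | r + 2 => (if Even r then q ^ (r + 1) else q ^ (r + 1) - 1) * onCount q (r + 1)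

/-- The order of the symplectic group of rank `k`. -/
def spOrd (q k : ℕ) : ℕ := q ^ (k ^ 2) * ∏ i ∈ Finset.range k, (q ^ (2 * (i + 1)) - 1)

theorem spOrd_fin (q k : ℕ) : spOrd q k = q ^ (k ^ 2) * ∏ i : Fin k, (q ^ (2 * ((i : ℕ) + 1)) - 1) := by
  rw [spOrd, Finset.prod_range]

theorem onCount_odd_even (q : ℕ) : ∀ k, onCount q (2 * k + 1) = spOrd q k ∧
    onCount q (2 * k + 2) = q ^ (2 * k + 1) * spOrd q k := by
  intro k
  induction k with
  | zero => simp [onCount, spOrd]
  | succ k ih =>
    have h1 : onCount q (2 * (k + 1) + 1) = spOrd q (k + 1) := by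
      show onCount q (2 * k + 1 + 2) = _
      rw [onCount, if_neg (by simp [Nat.even_add_one]), show 2 * k + 1 + 1 = 2 * k + 2 from rfl, ih.2, spOrd, spOrd,
        Finset.prod_range_succ, show (k + 1) ^ 2 = k ^ 2 + (2 * k + 1) by ring, pow_add]
      ring
    refine ⟨h1, ?_⟩
    show onCount q (2 * (k + 1) + 2) = _
    rw [onCount, if_pos (by simp), h1]

variable {W : Type v} [AddCommGroup W] [Module F W] [FiniteDimensional F W]

omit [Finite F] [FiniteDimensional F W] in
theorem indep_of_gram {κ : Type} [Fintype κ] [DecidableEq κ] {B : BilinForm F W} {G : Matrix κ κ F}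
    (hG : IsUnit G.det) {z : κ → W} (hz : ∀ i j, B (z i) (z j) = G i j) : LinearIndependent F z := by
  rw [Fintype.linearIndependent_iff]
  intro c hc
  have h : G.mulVec c = 0 := funext fun i => by
    have h1 := congrArg (fun u => B (z i) u) hc
    simp only [map_sum, map_smul, hz, smul_eq_mul, map_zero] at h1
    simpa [Matrix.mulVec, dotProduct, mul_comm] using h1
  have h2 := congrArg (fun u => G⁻¹.mulVec u) h
  simp only [Matrix.mulVec_mulVec, Matrix.nonsing_inv_mul _ hG, Matrix.one_mulVec, Matrix.mulVec_zero] at h2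
  exact fun i => congrFun h2 i

omit [Finite F] in
/-- Isometries correspond to bases with a fixed Gram matrix. -/
theorem card_gram_eq {κ : Type} [Fintype κ] [DecidableEq κ] {B : BilinForm F W} {G : Matrix κ κ F}
    (hG : IsUnit G.det) (hd : finrank F W = Fintype.card κ) {z₀ : κ → W} (hz₀ : ∀ i j, B (z₀ i) (z₀ j) = G i j) :
    Nat.card {z : κ → W // ∀ i j, B (z i) (z j) = G i j} = Nat.card (AltForm.isoGroup B) := by
  classical
  have hli₀ := indep_of_gram hG hz₀
  have hs₀ := hli₀.span_eq_top_of_card_eq_finrank' hd.symm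
  let b := Basis.mk hli₀ hs₀.ge
  have hb : ∀ i, b i = z₀ i := fun i => by simp [b]
  refine (Nat.card_congr (Equiv.ofBijective (fun g : AltForm.isoGroup B =>
    (⟨fun i => g.1 (z₀ i), fun i j => (g.2 _ _).trans (hz₀ i j)⟩ : {z : κ → W // ∀ i j, B (z i) (z j) = G i j}))
    ⟨fun g h e => Subtype.ext (b.ext' fun i => by
      rw [hb]; exact congrFun (congrArg Subtype.val e) i), fun z => ?_⟩)).symm
  have hli := indep_of_gram hG z.2
  have hs := hli.span_eq_top_of_card_eq_finrank' hd.symm
  let g := b.equiv (Basis.mk hli hs.ge) (Equiv.refl κ)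
  have hg : ∀ i, g (z₀ i) = z.1 i := fun i => by
    rw [← hb i]; simp [g]
  refine ⟨⟨g, fun x y => ?_⟩, Subtype.ext (funext hg)⟩
  have h : B.compl₁₂ g.toLinearMap g.toLinearMap = B := by
    refine LinearMap.ext_basis b b fun i j => ?_
    simp only [LinearMap.compl₁₂_apply, LinearEquiv.coe_coe, hb, hg, z.2, hz₀]
  exact LinearMap.congr_fun (LinearMap.congr_fun h x) y

variable [CharP F 2]

/-- Symplectic bases. -/
theorem card_symplectic_bases {B : BilinForm F W} (hA : B.IsAlt) (hnd : ∀ a, (∀ b, B a b = 0) → a = 0) {k : ℕ}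
    (hd : finrank F W = 2 * k) :
    Nat.card {z : Fin k ⊕ Fin k → W // ∀ i j, B (z i) (z j) = Matrix.J (Fin k) F i j} = spOrd (Nat.card F) k := by
  have hB : B.Nondegenerate := ⟨hnd, fun a ha => hnd a fun b => by rw [AltForm.swap hA, ha, neg_zero]⟩
  obtain ⟨k', l, b, h1, h2, h3, h4⟩ := AltForm.exists_basis hA
  have hl : l = 0 := by
    by_contra hl
    exact b.ne_zero (Sum.inr ⟨0, Nat.pos_of_ne_zero hl⟩) (hnd _ (h4 _))
  subst hl
  obtain rfl : k' = k := by
    rw [Module.finrank_eq_card_basis b] at hd
    simp at hd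
    omega
  rw [card_gram_eq (Matrix.isUnit_det_J (Fin k') F) (by rw [hd]; simp [two_mul])
    (z₀ := fun i => b (Sum.inl i)) (fun i j => ?_), AltForm.card_isoGroup hA hB hd]
  · rfl
  rcases i with i | i <;> rcases j with j | j
  · rw [h2]; simp [Matrix.J]
  · rw [h1]; simp [Matrix.J, Matrix.one_apply, CharTwo.neg_eq]
  · rw [AltForm.swap hA, h1]; simp [Matrix.J, Matrix.one_apply, eq_comm, CharTwo.neg_eq]
  · rw [h3]; simp [Matrix.J]

theorem sq_eq_one {a : F} (h : a * a = 1) : a = 1 := by
  have : (a + 1) * (a + 1) = 0 := by linear_combination h + (a + 1) * (CharTwo.two_eq_zero (R := F))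
  exact CharTwo.add_eq_zero.1 (mul_self_eq_zero.1 this)

/-- Orthonormal bases. -/
theorem card_orthonormal : ∀ (r : ℕ) {W : Type v} [AddCommGroup W] [Module F W] [FiniteDimensional F W]
    (β : BilinForm F W), (∀ a b, β a b = β b a) → (∀ a, (∀ b, β a b = 0) → a = 0) → finrank F W = r →
    ∀ z₀ : Fin r → W, (∀ i j, β (z₀ i) (z₀ j) = if i = j then 1 else 0) →
    Nat.card {z : Fin r → W // ∀ i j, β (z i) (z j) = if i = j then 1 else 0} = onCount (Nat.card F) r := by
  intro r
  induction r with
  | zero =>
    intro W _ _ _ β _ _ _ z₀ _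
    exact Nat.card_eq_one_iff_unique.2 ⟨⟨fun a b => Subtype.ext (funext fun i => i.elim0)⟩,
      ⟨⟨z₀, fun i => i.elim0⟩⟩⟩
  | succ r ih =>
    intro W _ _ _ β hs hnd hdim z₀ hz₀
    classical
    haveI : Finite W := Module.finite_of_finite F
    have hli := indep_of_gram (B := β) (G := 1) (by simp) (z := z₀) (fun i j => by rw [hz₀, Matrix.one_apply])
    have hspan := hli.span_eq_top_of_card_eq_finrank' (by rw [Fintype.card_fin, hdim])
    have hexp : ∀ v, ∃ c : Fin (r + 1) → F, v = ∑ i, c i • z₀ i := fun v => by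
      obtain ⟨c, hc⟩ := (Submodule.mem_span_range_iff_exists_fun F).1 (hspan.ge (Submodule.mem_top (x := v)))
      exact ⟨c, hc.symm⟩
    let j := ∑ i, z₀ i
    have hjc : ∀ c : Fin (r + 1) → F, β j (∑ i, c i • z₀ i) = ∑ i, c i := fun c => by
      simp [j, map_sum, hz₀]
    have hdiag : ∀ v, β v v = β j v * β j v := by
      intro v
      obtain ⟨c, rfl⟩ := hexp v
      rw [hjc, CharTwo.sum_mul_self]
      simp [map_sum, hz₀]
    have hjj : β j j = ((r + 1 : ℕ) : F) := by
      have h := hjc (fun _ => 1)
      simpa [j] using h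
    have hone : β j (z₀ 0) = 1 := by simp [j, map_sum, hz₀]
    -- split off the first vector
    let E := {e : W // β e e = 1}
    let fib : E → Type v := fun e =>
      {z : Fin r → LinearMap.ker (β e.1) // ∀ i k, β (z i : W) (z k : W) = if i = k then 1 else 0}
    let eq₁ : {z : Fin (r + 1) → W // ∀ i k, β (z i) (z k) = if i = k then 1 else 0} ≃ Σ e : E, fib e :=
      { toFun := fun z => ⟨⟨z.1 0, by simpa using z.2 0 0⟩, ⟨fun i => ⟨z.1 i.succ, by
            simpa [LinearMap.mem_ker, (Fin.succ_ne_zero i).symm] using z.2 0 i.succ⟩,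
          fun i k => by simpa using z.2 i.succ k.succ⟩⟩
        invFun := fun p => ⟨Fin.cons p.1.1 fun i => (p.2.1 i : W), fun i k => by
          induction i using Fin.cases <;> induction k using Fin.cases
          · simpa using p.1.2
          · rename_i k
            simpa [(Fin.succ_ne_zero k).symm] using LinearMap.mem_ker.1 (p.2.1 k).2
          · rename_i i
            simpa [Fin.succ_ne_zero i, hs _ p.1.1] using LinearMap.mem_ker.1 (p.2.1 i).2
          · rename_i i k
            simpa using p.2.2 i k⟩
        left_inv := fun z => Subtype.ext (Fin.cons_self_tail z.1)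
        right_inv := fun p => rfl }
    have hker : ∀ e : E, finrank F (LinearMap.ker (β e.1)) = r := fun e => by
      have h := LinearMap.finrank_range_add_finrank_ker (β e.1)
      rw [LinearMap.range_eq_top.2 (fun c => ⟨c • e.1, by simp [e.2]⟩), finrank_top, Module.finrank_self, hdim] at h
      omega
    have hnd' : ∀ (e : E) (a : LinearMap.ker (β e.1)), (∀ b : LinearMap.ker (β e.1), β (a : W) b = 0) → a = 0 := by
      intro e a ha
      refine Subtype.ext (hnd _ fun b => ?_)
      have hmem : b - β e.1 b • e.1 ∈ LinearMap.ker (β e.1) := by simp [LinearMap.mem_ker, e.2]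
      have h := ha ⟨_, hmem⟩
      have hav : β a.1 e.1 = 0 := by rw [hs]; exact a.2
      simpa [hav] using h
    have hfib : ∀ e : E, Nat.card (fib e) = if r ≠ 0 ∧ e.1 = j then 0 else onCount (Nat.card F) r := by
      intro e
      split_ifs with he
      · have : IsEmpty (fib e) := ⟨fun z => by
          obtain ⟨r', rfl⟩ := Nat.exists_eq_succ_of_ne_zero he.1
          have h := z.2 0 0
          rw [if_pos rfl, hdiag, ← he.2, LinearMap.mem_ker.1 (z.1 0).2, mul_zero] at h
          exact zero_ne_one h⟩
        exact Nat.card_of_isEmpty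
      · obtain ⟨z, hz⟩ := SpInv.exists_orthonormal r (β.restrict (LinearMap.ker (β e.1))) (fun a b => hs _ _)
          (fun a ha => hnd' e a fun b => ha b) (hker e) (fun hr => by
            by_contra hall
            push Not at hall
            refine he ⟨hr.ne', ?_⟩
            have hje : β j e.1 = 1 := sq_eq_one (by rw [← hdiag, e.2])
            rw [← sub_eq_zero]
            refine hnd _ fun v => ?_
            have hmem : v - β e.1 v • e.1 ∈ LinearMap.ker (β e.1) := by simp [LinearMap.mem_ker, e.2]
            have h : β (v - β e.1 v • e.1) (v - β e.1 v • e.1) = 0 := hall ⟨_, hmem⟩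
            rw [hdiag, mul_self_eq_zero, map_sub, map_smul, smul_eq_mul, hje, mul_one, sub_eq_zero] at h
            rw [map_sub, LinearMap.sub_apply, h, sub_self])
        exact ih (β.restrict (LinearMap.ker (β e.1))) (fun a b => hs _ _) (fun a ha => hnd' e a fun b => ha b)
          (hker e) z hz
    have hE : Nat.card E = Nat.card F ^ r := by
      let e' : E ≃ LinearMap.ker (β j) :=
        { toFun := fun w => ⟨w.1 - z₀ 0, by
            rw [LinearMap.mem_ker, map_sub, hone, sq_eq_one (a := β j w.1) (by rw [← hdiag, w.2]), sub_self]⟩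
          invFun := fun w => ⟨w.1 + z₀ 0, by
            rw [hdiag, map_add, LinearMap.mem_ker.1 w.2, hone, zero_add, one_mul]⟩
          left_inv := fun w => by simp
          right_inv := fun w => by simp }
      have h := LinearMap.finrank_range_add_finrank_ker (β j)
      rw [LinearMap.range_eq_top.2 (fun c => ⟨c • z₀ 0, by simp [hone]⟩), finrank_top, Module.finrank_self, hdim] at h
      rw [Nat.card_congr e', Module.natCard_eq_pow_finrank (K := F)]
      congr 1
      omega
    haveI : Fintype E := Fintype.ofFinite E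
    rw [Nat.card_congr eq₁, Nat.card_sigma, Finset.sum_congr rfl fun e _ => hfib e]
    rcases Nat.eq_zero_or_pos r with rfl | hr
    · simp [onCount, ← Nat.card_eq_fintype_card, hE]
    obtain ⟨r', rfl⟩ := Nat.exists_eq_succ_of_ne_zero hr.ne'
    simp only [ne_eq, Nat.succ_ne_zero, not_false_eq_true, true_and]
    rw [Finset.sum_ite, Finset.sum_const_zero, zero_add, Finset.sum_const, smul_eq_mul]
    show _ = onCount (Nat.card F) (r' + 2)
    rw [onCount]
    congr 1
    split_ifs with hev
    · have hne : ∀ e : E, e.1 ≠ j := fun e he => by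
        have h := e.2
        obtain ⟨t, ht⟩ := hev
        rw [he, hjj, CharP.cast_eq_zero_iff F 2 _ |>.2 (by omega)] at h
        exact zero_ne_one h
      rw [Finset.filter_true_of_mem (fun e _ => hne e), Finset.card_univ, ← Nat.card_eq_fintype_card, hE]
    · have hj : β j j = 1 := by
        rw [hjj]
        obtain ⟨t, ht⟩ := Nat.not_even_iff_odd.1 hev
        rw [show r'.succ + 1 = 2 * (t + 1) + 1 by omega]
        simp [CharTwo.two_eq_zero]
      rw [show (Finset.univ.filter fun e : E => ¬ e.1 = j) = Finset.univ.erase ⟨j, hj⟩ from by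
        ext e; simp only [Finset.mem_filter, Finset.mem_univ, true_and, Finset.mem_erase, and_true, ne_eq]; exact ⟨fun h h1 => h (congrArg Subtype.val h1), fun h h1 => h (Subtype.ext h1)⟩, Finset.card_erase_of_mem (Finset.mem_univ _), Finset.card_univ,
        ← Nat.card_eq_fintype_card, hE]

end Cfsg.Agent.InvCent
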