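/-
The exceptional case Ω⁻_4(2) ≅ A_5: one class of involutions.
-/
import Cfsg.Agent.S0824

set_option autoImplicit false

namespace Cfsg.Agent.OrthInv2

open Equiv

theorem involution_cycleType_five {g : Perm (Fin 5)} (h2 : orderOf g = 2) (hs : Perm.sign g = 1) :
    g.cycleType = {2, 2} := by
  obtain ⟨n, hn⟩ := Perm.cycleType_prime_order (σ := g) (by rw [h2]; exact Nat.prime_two)
  rw [h2] at hn
  have hsum : g.cycleType.sum ≤ 5 := by
    rw [Perm.sum_cycleType]; exact (Finset.card_le_univ _).trans (by simp)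
  have hsg := Perm.sign_of_cycleType g
  rw [hn, hs] at hsg
  rw [hn] at hsum
  simp at hsum
  have : n = 1 := by
    rcases n with _ | _ | n
    · exact absurd hsg (by decide)
    · rfl
    · omega
  subst this
  rw [hn]; rfl

theorem conj_alternating_five {g h : Perm (Fin 5)} (hg : orderOf g = 2) (hgs : Perm.sign g = 1)
    (hh : orderOf h = 2) (hhs : Perm.sign h = 1) : ∃ c, Perm.sign c = 1 ∧ c * g * c⁻¹ = h := by
  let x : Perm (Fin 5) := swap 0 1 * swap 2 3
  let s : Perm (Fin 5) := swap 0 1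
  have hx2 : orderOf x = 2 := orderOf_eq_prime (by decide) (by decide)
  have hxs : Perm.sign x = 1 := by decide
  have hsx : s * x * s⁻¹ = x := by decide
  have hss : Perm.sign s = -1 := by decide
  have key : ∀ y : Perm (Fin 5), orderOf y = 2 → Perm.sign y = 1 → ∃ c, Perm.sign c = 1 ∧ c * y * c⁻¹ = x := by
    intro y hy hys
    obtain ⟨c, hc⟩ := isConj_iff.1 (Perm.isConj_iff_cycleType_eq.2
      ((involution_cycleType_five hy hys).trans (involution_cycleType_five hx2 hxs).symm))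
    rcases Int.units_eq_one_or (Perm.sign c) with h1 | h1
    · exact ⟨c, h1, hc⟩
    · refine ⟨s * c, by rw [map_mul, hss, h1]; rfl, ?_⟩
      calc s * c * y * (s * c)⁻¹ = s * (c * y * c⁻¹) * s⁻¹ := by group
        _ = x := by rw [hc, hsx]
  obtain ⟨c, hc, hcg⟩ := key g hg hgs
  obtain ⟨d, hd, hdh⟩ := key h hh hhs
  refine ⟨d⁻¹ * c, by rw [map_mul, map_inv, hc, hd]; rfl, ?_⟩
  calc d⁻¹ * c * g * (d⁻¹ * c)⁻¹ = d⁻¹ * (c * g * c⁻¹) * d := by group
    _ = d⁻¹ * (d * h * d⁻¹) * d := by rw [hcg, hdh]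
    _ = h := by group

/-- The commutator subgroup of a copy of S₅ has one class of involutions. -/
theorem card_involution_classes_five {G : Type*} [Group G] (e : G ≃* Perm (Fin 5)) :
    Nat.card {C : ConjClasses ↥(commutator G) // ∃ g : ↥(commutator G), ConjClasses.mk g = C ∧ orderOf g = 2} = 1 := by
  have hA : (commutator G).map (e : G →* Perm (Fin 5)) = alternatingGroup (Fin 5) := by
    rw [← alternatingGroup.commutator_perm_eq (α := Fin 5) (by simp), commutator, commutator, Subgroup.map_commutator,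
      Subgroup.map_top_of_surjective (e : G →* Perm (Fin 5)) e.surjective]
  have hord : ∀ u : ↥(commutator G), orderOf (e u.1) = orderOf u := fun u => by
    rw [MulEquiv.orderOf_eq, Subgroup.orderOf_coe]
  have hsign : ∀ u : ↥(commutator G), Perm.sign (e u.1) = 1 := fun u =>
    Perm.mem_alternatingGroup.1 (hA ▸ Subgroup.mem_map_of_mem (e : G →* Perm (Fin 5)) u.2)
  have hlift : ∀ p : Perm (Fin 5), Perm.sign p = 1 → ∃ u : ↥(commutator G), e u.1 = p := fun p hp => by
    have hp' : p ∈ (commutator G).map (e : G →* Perm (Fin 5)) := hA ▸ Perm.mem_alternatingGroup.2 hp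
    obtain ⟨u, hu, rfl⟩ := hp'
    exact ⟨⟨u, hu⟩, rfl⟩
  rw [Nat.card_eq_one_iff_unique]
  refine ⟨⟨?_⟩, ?_⟩
  · rintro ⟨_, g, rfl, hg⟩ ⟨_, h, rfl, hh⟩
    obtain ⟨c, hc, hcc⟩ := conj_alternating_five ((hord g).trans hg) (hsign g) ((hord h).trans hh) (hsign h)
    obtain ⟨u, rfl⟩ := hlift c hc
    refine Subtype.ext (ConjClasses.mk_eq_mk_iff_isConj.2 (isConj_iff.2 ⟨u, Subtype.ext (e.injective ?_)⟩))
    simpa using hcc
  · obtain ⟨u, hu⟩ := hlift (swap 0 1 * swap 2 3) (by decide)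
    refine ⟨⟨ConjClasses.mk u, u, rfl, ?_⟩⟩
    rw [← hord, hu]
    exact orderOf_eq_prime (by decide) (by decide)

theorem classes_minus_four_two {F : Type*} [Field F] [Fintype F] [CharP F 2] (hF : Fintype.card F = 2) {a b : F}
    (hab : ∀ z₁ z₂ : F, z₁ ^ 2 + a * z₁ * z₂ + b * z₂ ^ 2 = 0 → z₁ = 0 ∧ z₂ = 0) :
    Nat.card {C : ConjClasses ↥(Cfsg.Omega F (⇑(Agent.Orth.qMinus F (2 - 1) a b))) //
      ∃ g : ↥(Cfsg.Omega F (⇑(Agent.Orth.qMinus F (2 - 1) a b))), ConjClasses.mk g = C ∧ orderOf g = 2} =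
      2 / 2 + (2 - 1) / 2 := by
  classical
  have h01 : ∀ c : F, c = 0 ∨ c = 1 := fun c => by
    have hu : ({0, 1} : Finset F) = Finset.univ := Finset.eq_univ_of_card _ (by simp [hF])
    have h := Finset.mem_univ c
    rw [← hu] at h
    simpa using h
  obtain rfl : b = 1 := (h01 b).resolve_left fun h => one_ne_zero (hab 0 1 (by simp [h])).2
  obtain rfl : a = 1 := (h01 a).resolve_left fun h => one_ne_zero (hab 1 1 (by
    simp [h, CharTwo.add_self_eq_zero])).1
  rw [Agent.Orth.coe_qMinus]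
  exact card_involution_classes_five (S0824.result hF).some

end Cfsg.Agent.OrthInv2
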