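/-
The centraliser in the symplectic group permutes the invariant quadratic forms with the given polar form.
-/
import Cfsg.Agent.Lib.Orthogonal.CharTwoInv.Normal
import Cfsg.Agent.Lib.Orthogonal.Counts

set_option autoImplicit false

universe u v

namespace Cfsg.Agent.InvCent

open QuadraticMap Module Cfsg.Agent.Orth
open Cfsg.Agent.OrthInv2 (IsInv polar_isAlt)

variable {F : Type u} [Field F] [Finite F] [CharP F 2]

/-- The image of `t ↦ t² + t`. -/
def InAS (c : F) : Prop := ∃ μ : F, μ * μ + μ = c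

omit [Finite F] in
theorem inAS_add {c d : F} (hc : InAS c) (hd : InAS d) : InAS (c + d) := by
  obtain ⟨x, rfl⟩ := hc
  obtain ⟨y, rfl⟩ := hd
  exact ⟨x + y, by linear_combination x * y * (CharTwo.two_eq_zero (R := F))⟩

omit [Finite F] [CharP F 2] in
theorem inAS_zero : InAS (0 : F) := ⟨0, by simp⟩

omit [Finite F] in
theorem inAS_sq_add (x : F) : InAS (x * x + x) := ⟨x, rfl⟩

omit [Finite F] in
theorem not_inAS_iff {c : F} : ¬ InAS c ↔ ∀ t : F, t ^ 2 + t + c ≠ 0 := by
  simp only [InAS, not_exists]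
  refine forall_congr' fun t => not_congr ⟨fun h => ?_, fun h => ?_⟩
  · linear_combination h + c * (CharTwo.two_eq_zero (R := F))
  · linear_combination h - c * (CharTwo.two_eq_zero (R := F))

theorem exists_not_inAS : ∃ c : F, ¬ InAS c := by
  obtain ⟨z, hz⟩ := LBSpOrth.exists_nonsplit (F := F)
  exact ⟨z, not_inAS_iff.2 hz⟩

theorem inAS_toggle {c₀ : F} (h₀ : ¬ InAS c₀) (c : F) : InAS (c + c₀) ↔ ¬ InAS c := by
  constructor
  · intro h hc
    have := inAS_add h hc
    rw [add_right_comm, CharTwo.add_self_eq_zero, zero_add] at this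
    exact h₀ this
  · intro hc
    obtain ⟨t, ht⟩ := LBSpOrth.as_add (not_inAS_iff.1 hc) (not_inAS_iff.1 h₀)
    exact ⟨t, by linear_combination ht - (c + c₀) * (CharTwo.two_eq_zero (R := F))⟩

omit [Finite F] in
theorem inAS_mul_self (c x : F) : InAS (c + x * x) ↔ InAS (c + x) := by
  constructor <;> intro h <;> have h1 := inAS_add h (inAS_sq_add x)
  · rwa [show c + x * x + (x * x + x) = c + x by linear_combination x * x * (CharTwo.two_eq_zero (R := F))] at h1
  · rwa [show c + x + (x * x + x) = c + x * x by linear_combination x * (CharTwo.two_eq_zero (R := F))] at h1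

theorem half_count {α : Type*} [Finite α] {p : α → Prop} (e : α ≃ α) (h : ∀ a, p (e a) ↔ ¬ p a) :
    2 * Nat.card {a // p a} = Nat.card α := by
  classical
  have h1 : Nat.card {a // ¬ p a} = Nat.card {a // p a} := Nat.card_congr (e.subtypeEquiv fun a => (h a).symm)
  rw [← Nat.card_congr (Equiv.sumCompl p), Nat.card_sum, h1, two_mul]

variable {V : Type v} [AddCommGroup V] [Module F V] [FiniteDimensional F V] {Q : QuadraticForm F V}
  (hQ : (polarBilin Q).Nondegenerate) {N : V →ₗ[F] V} (hN : IsInv Q N)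
include hQ hN

/-- Elements with a solvable Artin–Schreier equation in `ker N`. -/
theorem card_symplectic_cent (hne : 2 * Nat.card {v : V // InAS (Q v)} ≠ Nat.card V) :
    Nat.card {g : AltForm.isoGroup (polarBilin Q) // ∀ v, g.1 (N v) = N (g.1 v)} =
      Nat.card {g : oGroup Q // ∀ v, g.1 (N v) = N (g.1 v)} *
        Nat.card {a : LinearMap.ker N // InAS (Q (a : V))} := by
  classical
  haveI : Finite V := Module.finite_of_finite F
  have hA := polar_isAlt Q
  have key : ∀ a : {a : LinearMap.ker N // InAS (Q (a : V))},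
      ∃ g ∈ AltForm.isoGroup (polarBilin Q), (∀ v, g (N v) = N (g v)) ∧
        ∀ v, Q (g v) = Q v + polar Q v a.1 * polar Q v a.1 := by
    rintro ⟨⟨a, ha⟩, μ, hμ⟩
    rw [LinearMap.mem_ker] at ha
    obtain ⟨μ, hμ0, hμ⟩ : ∃ μ : F, μ ≠ 0 ∧ μ * μ + μ = Q a := by
      by_cases h0 : μ = 0
      · exact ⟨μ + 1, by rw [h0, zero_add]; exact one_ne_zero,
          by linear_combination hμ + (μ + 1) * (CharTwo.two_eq_zero (R := F))⟩
      · exact ⟨μ, h0, hμ⟩
    have hap : ∀ x, AltForm.transv hA a μ⁻¹ x = x + (μ⁻¹ * polar Q x a) • a := fun x =>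
      AltForm.transv_apply hA a μ⁻¹ x
    refine ⟨AltForm.transv hA a μ⁻¹, AltForm.transv_mem_iso hA a _, fun v => ?_, fun v => ?_⟩
    · rw [hap, hap, map_add, map_smul, ha, smul_zero, add_zero,
        hN.adj, ha, b_zero_right, mul_zero, zero_smul, add_zero]
    · show Q (AltForm.transv hA a μ⁻¹ v) = Q v + polar Q v a * polar Q v a
      rw [hap, q_add, q_smul, b_smul_right, ← hμ, add_assoc]
      congr 1
      show μ⁻¹ * polar Q v a * (μ⁻¹ * polar Q v a) * (μ * μ + μ) + μ⁻¹ * polar Q v a * polar Q v a =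
        polar Q v a * polar Q v a
      field_simp
      linear_combination (polar Q v a ^ 2) * (CharTwo.two_eq_zero (R := F))
  choose T hT hTc hTQ using key
  have hO : ∀ g : oGroup Q, g.1 ∈ AltForm.isoGroup (polarBilin Q) := fun g x y => b_map g.2 x y
  let f : {g : oGroup Q // ∀ v, g.1 (N v) = N (g.1 v)} × {a : LinearMap.ker N // InAS (Q (a : V))} →
      {g : AltForm.isoGroup (polarBilin Q) // ∀ v, g.1 (N v) = N (g.1 v)} := fun p =>
    ⟨⟨p.1.1.1 * T p.2, mul_mem (hO p.1.1) (hT p.2)⟩, fun v => by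
      show p.1.1.1 (T p.2 (N v)) = N (p.1.1.1 (T p.2 v))
      rw [hTc, p.1.2]⟩
  have hfQ : ∀ p v, Q ((f p).1.1 v) = Q v + polar Q v p.2.1 * polar Q v p.2.1 := fun p v =>
    (p.1.1.2 (T p.2 v)).trans (hTQ p.2 v)
  rw [← Nat.card_prod]
  refine (Nat.card_congr (Equiv.ofBijective f ⟨fun p q e => ?_, fun g => ?_⟩)).symm
  · obtain ⟨p1, p2⟩ := p
    obtain ⟨q1, q2⟩ := q
    have h2 : p2 = q2 := by
      refine Subtype.ext (Subtype.ext (sub_eq_zero.1 (eq_zero_of_b hQ fun v => ?_)))
      have h := (hfQ (p1, p2) v).symm.trans ((congrArg (fun g => Q (g.1.1 v)) e).trans (hfQ (q1, q2) v))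
      rw [b_comm, b_sub_right, sub_eq_zero]
      have h' := add_left_cancel h
      have h2 : (polar Q v p2.1 + polar Q v q2.1) * (polar Q v p2.1 + polar Q v q2.1) = 0 := by
        linear_combination h' + (polar Q v p2.1 * polar Q v q2.1 + polar Q v q2.1 * polar Q v q2.1) *
          (CharTwo.two_eq_zero (R := F))
      exact CharTwo.add_eq_zero.1 (mul_self_eq_zero.1 h2)
    subst h2
    have h : p1.1.1 * T p2 = q1.1.1 * T p2 := congrArg (fun g => g.1.1) e
    exact Prod.ext (Subtype.ext (Subtype.ext (mul_right_cancel h))) rfl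
  obtain ⟨⟨g, hg⟩, hgc⟩ := g
  have hgp : ∀ x y, polar Q (g x) (g y) = polar Q x y := hg
  -- the square root of `Q ∘ g + Q` is linear
  choose l hl using fun v => SpInv.exists_sqrt (Q (g v) + Q v)
  have uniq : ∀ x y : F, x * x = y * y → x = y := fun x y h => CharTwo.add_eq_zero.1 (mul_self_eq_zero.1 (by
    linear_combination h + (y * y + x * y) * (CharTwo.two_eq_zero (R := F))))
  let L : V →ₗ[F] F :=
    { toFun := l
      map_add' := fun x y => uniq _ _ (by
        rw [hl, map_add, q_add, q_add, hgp]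
        linear_combination -(hl x) - hl y + (polar Q x y - l x * l y) * (CharTwo.two_eq_zero (R := F)))
      map_smul' := fun c x => uniq _ _ (by
        rw [hl, map_smul, q_smul, q_smul, RingHom.id_apply, smul_eq_mul]
        linear_combination -(c * c) * hl x) }
  obtain ⟨a, ha⟩ : ∃ a, ∀ v, polar Q a v = L v :=
    ⟨(LinearMap.BilinForm.toDual (polarBilin Q) hQ).symm L, fun v => by
      rw [← polarBilin_apply_apply]; exact LinearMap.BilinForm.apply_toDual_symm_apply (hB := hQ) L v⟩
  have hga : ∀ v, Q (g v) = Q v + polar Q v a * polar Q v a := fun v => by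
    rw [b_comm, ha]
    show _ = Q v + l v * l v
    rw [hl]
    linear_combination -Q v * (CharTwo.two_eq_zero (R := F))
  have haN : N a = 0 := eq_zero_of_b hQ fun v => by
    have h := hga (N v)
    rw [hgc, hN.val, hN.val, ← hgc, hgp, left_eq_add, mul_self_eq_zero] at h
    rw [hN.adj, b_comm]
    exact h
  have haS : InAS (Q a) := by
    by_contra hna
    apply hne
    have e1 : Nat.card {v : V // InAS (Q v)} = Nat.card {v : V // InAS (Q (g v))} :=
      Nat.card_congr (g.toEquiv.subtypeEquiv fun v => Iff.rfl).symm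
    have e2 : ∀ v, InAS (Q (g v)) ↔ ¬ InAS (Q (v + a)) := fun v => by
      rw [hga, inAS_mul_self, ← inAS_toggle hna, q_add]
      rw [show Q v + Q a + polar Q v a + Q a = Q v + polar Q v a by
        linear_combination Q a * (CharTwo.two_eq_zero (R := F))]
    have e3 : Nat.card {v : V // InAS (Q v)} = Nat.card {v : V // ¬ InAS (Q v)} := by
      rw [e1]
      exact Nat.card_congr ((Equiv.addRight a).subtypeEquiv fun v => e2 v)
    rw [two_mul]
    nth_rw 2 [e3]
    rw [← Nat.card_sum, Nat.card_congr (Equiv.sumCompl _)]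
  let a' : {a : LinearMap.ker N // InAS (Q (a : V))} := ⟨⟨a, haN⟩, haS⟩
  have hmem : g * (T a')⁻¹ ∈ oGroup Q := fun v => by
    show Q (g ((T a')⁻¹ v)) = Q v
    have h := hTQ a' ((T a')⁻¹ v)
    rw [show T a' ((T a')⁻¹ v) = v from (T a').apply_symm_apply v] at h
    rw [hga, h]
  refine ⟨(⟨⟨_, hmem⟩, fun v => ?_⟩, a'), Subtype.ext (Subtype.ext (inv_mul_cancel_right g (T a')))⟩
  show g ((T a')⁻¹ (N v)) = N (g ((T a')⁻¹ v))
  rw [← hgc]
  congr 1
  apply (T a').injective
  rw [hTc, show T a' ((T a')⁻¹ (N v)) = N v from (T a').apply_symm_apply _,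
    show T a' ((T a')⁻¹ v) = v from (T a').apply_symm_apply _]

omit hQ in
theorem count_ker_nonalt (hna : ∃ v, Q (N v) ≠ 0) :
    2 * Nat.card {a : LinearMap.ker N // InAS (Q (a : V))} = Nat.card (LinearMap.ker N) := by
  haveI : Finite V := Module.finite_of_finite F
  obtain ⟨v, hv⟩ := hna
  obtain ⟨c₀, hc₀⟩ := exists_not_inAS (F := F)
  obtain ⟨t, ht⟩ := SpInv.exists_sqrt (c₀ / Q (N v))
  let u : LinearMap.ker N := ⟨t • N v, by rw [LinearMap.mem_ker, map_smul, hN.sq, smul_zero]⟩
  refine half_count (Equiv.addRight u) fun a => ?_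
  show InAS (Q ((a : V) + t • N v)) ↔ _
  rw [q_add, q_smul, ht, div_mul_cancel₀ _ hv, b_smul_right, ← hN.adj, LinearMap.mem_ker.1 a.2, b_zero_left, mul_zero,
    add_zero, inAS_toggle hc₀]

theorem count_ker_alt (halt : ∀ v, Q (N v) = 0) :
    2 * Nat.card {a : LinearMap.ker N // InAS (Q (a : V))} + Nat.card V =
      2 * Nat.card {v : V // InAS (Q v)} + Nat.card (LinearMap.ker N) := by
  classical
  haveI : Finite V := Module.finite_of_finite F
  obtain ⟨c₀, hc₀⟩ := exists_not_inAS (F := F)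
  let S := {v : V // N v ≠ 0}
  have key : ∀ y : V, y ≠ 0 → ∃ w, polar Q y w = c₀ := by
    intro y hy
    obtain ⟨w, hw⟩ : ∃ w, polar Q y w ≠ 0 := by
      by_contra h
      push Not at h
      exact hy (eq_zero_of_b hQ h)
    exact ⟨(c₀ / polar Q y w) • w, by rw [b_smul_right, div_mul_cancel₀ _ hw]⟩
  choose w hw using key
  let σ : S → S := fun v => ⟨v.1 + N (w (N v.1) v.2), by rw [map_add, hN.sq, add_zero]; exact v.2⟩
  have hσ : Function.Involutive σ := fun v => Subtype.ext (by
    have h : N (σ v).1 = N v.1 := by show N (_ + N _) = _; rw [map_add, hN.sq, add_zero]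
    show (σ v).1 + N (w (N (σ v).1) (σ v).2) = v.1
    simp only [h]
    show v.1 + N (w (N v.1) v.2) + N (w (N v.1) v.2) = v.1
    generalize N (w (N v.1) v.2) = x
    rw [add_assoc, ← two_smul F x, CharTwo.two_eq_zero, zero_smul, add_zero])
  have hS : 2 * Nat.card {v : S // InAS (Q v.1)} = Nat.card S := by
    refine half_count hσ.toPerm fun v => ?_
    show InAS (Q (v.1 + N (w (N v.1) v.2))) ↔ _
    rw [q_add, halt, add_zero, ← hN.adj, hw, inAS_toggle hc₀]
  have hV : Nat.card V = Nat.card (LinearMap.ker N) + Nat.card S := by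
    rw [← Nat.card_congr (Equiv.sumCompl fun v : V => N v = 0), Nat.card_sum]
    rfl
  have hP : Nat.card {v : V // InAS (Q v)} =
      Nat.card {a : LinearMap.ker N // InAS (Q (a : V))} + Nat.card {v : S // InAS (Q v.1)} := by
    rw [← Nat.card_sum]
    exact Nat.card_congr
      { toFun := fun v => if h : N v.1 = 0 then .inl ⟨⟨v.1, h⟩, v.2⟩ else .inr ⟨⟨v.1, h⟩, v.2⟩
        invFun := Sum.elim (fun a => ⟨a.1.1, a.2⟩) (fun a => ⟨a.1.1, a.2⟩)
        left_inv := fun v => by dsimp only; split_ifs <;> rfl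
        right_inv := by
          rintro (a | a)
          · simp [LinearMap.mem_ker.1 a.1.2]
          · simp [a.1.2] }
  omega

omit hQ hN [FiniteDimensional F V] in
/-- The hyperbolic form. -/
theorem count_qPlus (m : ℕ) :
    2 * Nat.card {v : Fin m ⊕ Fin m → F // InAS (qPlus F m v)} = Nat.card F ^ (2 * m) + Nat.card F ^ m := by
  classical
  haveI := Fintype.ofFinite F
  obtain ⟨c₀, hc₀⟩ := exists_not_inAS (F := F)
  have hval : ∀ x y : Fin m → F, qPlus F m (Sum.elim x y) = ∑ i, x i * y i := fun x y => by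
    rw [coe_qPlus]; rfl
  let e := Equiv.sumArrowEquivProdArrow (Fin m) (Fin m) F
  rw [Nat.card_congr (e.subtypeEquiv (q := fun p => InAS (∑ i, p.1 i * p.2 i)) fun v => by
    rw [← hval]
    exact iff_of_eq (congrArg (fun u => InAS (qPlus F m u)) (Sum.elim_comp_inl_inr v).symm))]
  rw [Nat.card_congr (Equiv.subtypeProdEquivSigmaSubtype fun x y : Fin m → F => InAS (∑ i, x i * y i)), Nat.card_sigma,
    Finset.mul_sum, ← Finset.add_sum_erase _ _ (Finset.mem_univ (0 : Fin m → F)),
    Finset.sum_congr rfl fun x hx => (?_ : _ = Nat.card (Fin m → F))]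
  · have h0 : Nat.card {y : Fin m → F // InAS (∑ i, (0 : Fin m → F) i * y i)} = Nat.card (Fin m → F) :=
      Nat.card_congr (Equiv.subtypeUnivEquiv fun y => by simpa using inAS_zero)
    rw [h0, Finset.sum_const, Finset.card_erase_of_mem (Finset.mem_univ _), Finset.card_univ, smul_eq_mul,
      ← Nat.card_eq_fintype_card, Nat.card_fun, Nat.card_fin, two_mul m, pow_add]
    have := Nat.one_le_pow m (Nat.card F) Nat.card_pos
    generalize Nat.card F ^ m = A at this ⊢
    obtain ⟨B, rfl⟩ : ∃ B, A = B + 1 := ⟨A - 1, by omega⟩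
    rw [Nat.add_sub_cancel]
    ring
  · obtain ⟨i, hi⟩ := Function.ne_iff.1 (Finset.mem_erase.1 hx).1
    refine half_count (Equiv.addRight (Pi.single i (c₀ / x i))) fun y => ?_
    simp only [Equiv.coe_addRight, Pi.add_apply, mul_add, Finset.sum_add_distrib, Pi.single_apply, mul_ite, mul_zero,
      Finset.sum_ite_eq', Finset.mem_univ, if_true, mul_div_cancel₀ _ (show x i ≠ 0 from hi), inAS_toggle hc₀]

end Cfsg.Agent.InvCent
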