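/-
Orders of centralisers of involutions in symplectic groups, characteristic two.
-/
import Cfsg.Agent.Lib.Orthogonal.CharTwoInv.BetaCount
import Mathlib.Data.Sym.Card

set_option autoImplicit false

universe u v

namespace Cfsg.Agent.InvCent

open Module
open LinearMap (BilinForm)
open Cfsg.Agent.SpInv (IsNil)

variable {F : Type u} [Field F] [Finite F] [CharP F 2] {V : Type v} [AddCommGroup V] [Module F V]
  [FiniteDimensional F V] {B : BilinForm F V} {N : V →ₗ[F] V} {κ : Type} [Fintype κ] [DecidableEq κ]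

omit [Finite F] [CharP F 2] in
theorem spOrd_pos {q : ℕ} (hq : 1 < q) (k : ℕ) : 0 < spOrd q k :=
  Nat.mul_pos (pow_pos (by omega) _)
    (Finset.prod_pos fun i _ => Nat.sub_pos_of_lt (Nat.one_lt_pow (by omega) hq))

/-- Pairing with a family. -/
noncomputable def toF (B : BilinForm F V) (z : κ → V) : V →ₗ[F] (κ → F) := LinearMap.pi fun i => B (z i)

/-- The kernel of `N` orthogonal to a family. -/
noncomputable def kerPerp (B : BilinForm F V) (N : V →ₗ[F] V) (z : κ → V) : Submodule F V :=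
  LinearMap.ker N ⊓ LinearMap.ker (toF B z)

omit [Finite F] [CharP F 2] [FiniteDimensional F V] [Fintype κ] [DecidableEq κ] in
theorem mem_kerPerp {z : κ → V} {k : V} : k ∈ kerPerp B N z ↔ N k = 0 ∧ ∀ i, B (z i) k = 0 := by
  simp [kerPerp, toF, funext_iff]

/-- The section of `toF` inside the range of `N`. -/
noncomputable def sig (N : V →ₗ[F] V) (G : Matrix κ κ F) (z : κ → V) : (κ → F) →ₗ[F] V :=
  N ∘ₗ Fintype.linearCombination F z ∘ₗ G⁻¹.mulVecLin

omit [Finite F] [CharP F 2] [FiniteDimensional F V] in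
theorem sig_range (G : Matrix κ κ F) (z : κ → V) (c : κ → F) : sig N G z c ∈ LinearMap.range N := ⟨_, rfl⟩

variable (hN : IsNil B N)
include hN

omit [Finite F] [CharP F 2] [FiniteDimensional F V] [Fintype κ] [DecidableEq κ] in
theorem range_ker_orth {u k : V} (hu : u ∈ LinearMap.range N) (hk : N k = 0) : B u k = 0 ∧ B k u = 0 := by
  obtain ⟨w, rfl⟩ := hu
  exact ⟨by rw [hN.adj, hk, map_zero], by rw [← hN.adj, hk, map_zero, LinearMap.zero_apply]⟩

omit [Finite F] [CharP F 2] [FiniteDimensional F V] [Fintype κ] [DecidableEq κ] in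
theorem range_le_ker {u : V} (hu : u ∈ LinearMap.range N) : N u = 0 := by
  obtain ⟨w, rfl⟩ := hu
  exact hN.sq w

variable {G : Matrix κ κ F} (hG : IsUnit G.det) {z : κ → V} (hz : ∀ i j, B (z i) (N (z j)) = G i j)
include hG hz

omit [Finite F] [CharP F 2] [FiniteDimensional F V] in
theorem toF_sig (c : κ → F) : toF B z (sig N G z c) = c := by
  funext i
  simp only [toF, sig, LinearMap.pi_apply, LinearMap.comp_apply, Fintype.linearCombination_apply, map_sum, map_smul,
    smul_eq_mul, hz, Matrix.mulVecLin_apply]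
  have h : G.mulVec (G⁻¹.mulVec c) i = c i := by
    rw [Matrix.mulVec_mulVec, Matrix.mul_nonsing_inv _ hG, Matrix.one_mulVec]
  refine Eq.trans ?_ h
  exact Finset.sum_congr rfl fun l _ => mul_comm _ _

/-- `ker N` splits as a copy of the range and the orthogonal of the family. -/
noncomputable def kerSplit : LinearMap.ker N ≃ₗ[F] (κ → F) × kerPerp B N z where
  toFun k := (toF B z k, ⟨(k : V) - sig N G z (toF B z k), mem_kerPerp.2
    ⟨by rw [map_sub, LinearMap.mem_ker.1 k.2, range_le_ker hN (sig_range _ _ _), sub_zero], fun i => by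
      have h := congrFun (toF_sig hN hG hz (toF B z k)) i
      rw [map_sub, show B (z i) (sig N G z (toF B z k)) = B (z i) k from h, sub_self]⟩⟩)
  invFun p := ⟨sig N G z p.1 + p.2, by
    rw [LinearMap.mem_ker, map_add, range_le_ker hN (sig_range _ _ _), (mem_kerPerp.1 p.2.2).1, add_zero]⟩
  map_add' a b := by
    refine Prod.ext (by simp) (Subtype.ext ?_)
    simp only [Submodule.coe_add, map_add, Prod.snd_add]
    abel
  map_smul' c a := by
    refine Prod.ext (by simp) (Subtype.ext ?_)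
    simp [smul_sub]
  left_inv k := Subtype.ext (by simp)
  right_inv p := by
    have h0 : toF B z (p.2 : V) = 0 := funext fun i => (mem_kerPerp.1 p.2.2).2 i
    have h : toF B z (sig N G z p.1 + (p.2 : V)) = p.1 := by rw [map_add, toF_sig hN hG hz, h0, add_zero]
    refine Prod.ext h (Subtype.ext ?_)
    show sig N G z p.1 + (p.2 : V) - sig N G z (toF B z (sig N G z p.1 + (p.2 : V))) = p.2
    rw [h, add_sub_cancel_left]

theorem kerSplit_pair (k k' : LinearMap.ker N) :
    B (k : V) (k' : V) = B ((kerSplit hN hG hz k).2 : V) ((kerSplit hN hG hz k').2 : V) := by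
  show _ = B ((k : V) - sig N G z (toF B z k)) ((k' : V) - sig N G z (toF B z k'))
  have h1 := range_ker_orth hN (sig_range G z (toF B z k)) (LinearMap.mem_ker.1 k'.2)
  have h2 := range_ker_orth hN (sig_range G z (toF B z k')) (LinearMap.mem_ker.1 k.2)
  have h3 := range_ker_orth hN (sig_range G z (toF B z k)) (range_le_ker hN (sig_range G z (toF B z k')))
  simp only [map_sub, LinearMap.sub_apply, h1.1, h2.2, h3.1, sub_zero]

variable (hr : Fintype.card κ = finrank F (LinearMap.range N))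
include hr

omit [Finite F] [CharP F 2] in
theorem finrank_kerPerp : finrank F (kerPerp B N z) + 2 * Fintype.card κ = finrank F V := by
  have h1 := LinearEquiv.finrank_eq (kerSplit hN hG hz)
  rw [Module.finrank_prod, Module.finrank_fintype_fun_eq_card] at h1
  have h2 := LinearMap.finrank_range_add_finrank_ker N
  omega

omit [Finite F] [CharP F 2] in
theorem exists_expand (v : V) : ∃ (c : κ → F) (k : V), N k = 0 ∧ v = (∑ i, c i • z i) + k := by
  have hli := SpInv.indep_range G hG z hz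
  have hle : Submodule.span F (Set.range fun i => N (z i)) ≤ LinearMap.range N :=
    Submodule.span_le.2 (by rintro _ ⟨i, rfl⟩; exact ⟨z i, rfl⟩)
  have hs := Submodule.eq_of_le_of_finrank_eq hle (by rw [finrank_span_eq_card hli, hr])
  obtain ⟨c, hc⟩ := (Submodule.mem_span_range_iff_exists_fun F).1 (hs.ge ⟨v, rfl⟩ : N v ∈ _)
  refine ⟨c, v - ∑ i, c i • z i, ?_, by abel⟩
  rw [map_sub, map_sum, ← hc]
  simp

omit [Finite F] [CharP F 2] in
theorem kerPerp_nondeg (hA : B.IsAlt) (hB : B.Nondegenerate) {a : V} (ha : a ∈ kerPerp B N z)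
    (h : ∀ b ∈ kerPerp B N z, B a b = 0) : a = 0 := by
  obtain ⟨haN, haz⟩ := mem_kerPerp.1 ha
  refine hB.1 a fun v => ?_
  obtain ⟨c, k, hk, rfl⟩ := exists_expand hN hG hz hr v
  have h1 : B a k = 0 := by
    obtain ⟨p, hp⟩ := (kerSplit hN hG hz).symm.surjective ⟨k, hk⟩
    have hk' : k = sig N G z p.1 + p.2 := (congrArg Subtype.val hp).symm
    rw [hk', map_add, (range_ker_orth hN (sig_range _ _ _) haN).2, h _ p.2.2, add_zero]
  simp [h1, AltForm.swap hA (z _) a, haz]

/-- Lifts of a family with totally isotropic span. -/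
theorem card_fibre (hA : B.IsAlt) :
    Nat.card {k : κ → LinearMap.ker N // ∀ i j, B (z i + (k i : V)) (z j + (k j : V)) = 0} =
      Nat.card F ^ ((Fintype.card κ + 1).choose 2 +
        Fintype.card κ * finrank F (kerPerp B N z)) := by
  classical
  haveI : Finite V := Module.finite_of_finite F
  let K := kerPerp B N z
  let P : (κ → K) → κ → κ → F := fun w i j => B (z i) (z j) + B (w i : V) (w j : V)
  let o := Fintype.equivFin κ
  let T : (κ → K) → κ → κ → F := fun w i j => if o i < o j then P w i j else 0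
  have hPd : ∀ w i, P w i i = 0 := fun w i => by simp [P, hA.self_eq_zero]
  have hPs : ∀ w i j, P w i j = P w j i := fun w i j => by
    simp only [P, AltForm.swap hA (z i) (z j), AltForm.swap hA (w i : V) (w j : V), CharTwo.neg_eq]
  have hT : ∀ w i j, T w i j + T w j i = P w i j := fun w i j => by
    rcases lt_trichotomy (o i) (o j) with h | h | h
    · simp [T, h, not_lt.2 h.le]
    · obtain rfl := o.injective h
      simp [T, hPd]
    · simp [T, h, not_lt.2 h.le, hPs w i j]
  let Sy := {S : κ → κ → F // ∀ i j, S i j = S j i}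
  have key : ∀ (k : κ → LinearMap.ker N) (i j : κ), B (z i + (k i : V)) (z j + (k j : V)) =
      P (fun l => (kerSplit hN hG hz (k l)).2) i j +
        ((kerSplit hN hG hz (k j)).1 i + (kerSplit hN hG hz (k i)).1 j) := by
    intro k i j
    have h2 : B (k i : V) (z j) = (kerSplit hN hG hz (k i)).1 j := by
      rw [AltForm.swap hA (z j), CharTwo.neg_eq]; rfl
    have h3 : B (z i) (k j : V) = (kerSplit hN hG hz (k j)).1 i := rfl
    simp only [map_add, LinearMap.add_apply, P]
    rw [h2, h3, ← kerSplit_pair hN hG hz]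
    ring
  let Ψ : (κ → LinearMap.ker N) ≃ (κ → κ → F) × (κ → K) :=
    (Equiv.arrowCongr (Equiv.refl κ) (kerSplit hN hG hz).toEquiv).trans (Equiv.arrowProdEquivProdArrow _ _ _)
  let e : {k : κ → LinearMap.ker N // ∀ i j, B (z i + (k i : V)) (z j + (k j : V)) = 0} ≃ Sy × (κ → K) :=
    { toFun := fun k => (⟨fun i j => (Ψ k.1).1 j i + T (Ψ k.1).2 i j, fun i j => by
          have h := (key k.1 i j).symm.trans (k.2 i j)
          change P (Ψ k.1).2 i j + ((Ψ k.1).1 j i + (Ψ k.1).1 i j) = 0 at h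
          rw [← CharTwo.add_eq_zero]
          linear_combination h + hT (Ψ k.1).2 i j⟩, (Ψ k.1).2)
      invFun := fun p => ⟨Ψ.symm (fun j i => p.1.1 i j + T p.2 i j, p.2), fun i j => by
          rw [key]
          have e1 : ∀ l, kerSplit hN hG hz (Ψ.symm (fun j i => p.1.1 i j + T p.2 i j, p.2) l) =
              (fun i => p.1.1 i l + T p.2 i l, p.2 l) := fun l => (kerSplit hN hG hz).apply_symm_apply _
          simp only [e1]
          show P p.2 i j + ((p.1.1 i j + T p.2 i j) + (p.1.1 j i + T p.2 j i)) = 0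
          linear_combination (T p.2 i j + T p.2 j i + p.1.1 j i) * (CharTwo.two_eq_zero (R := F)) + p.1.2 i j -
            hT p.2 i j⟩
      left_inv := fun k => Subtype.ext (Ψ.injective (by
        rw [Equiv.apply_symm_apply]
        refine Prod.ext (funext fun j => funext fun i => ?_) rfl
        show (Ψ k.1).1 j i + T (Ψ k.1).2 i j + T (Ψ k.1).2 i j = _
        linear_combination T (Ψ k.1).2 i j * (CharTwo.two_eq_zero (R := F))))
      right_inv := fun p => by
        simp only [Equiv.apply_symm_apply]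
        refine Prod.ext (Subtype.ext (funext fun i => funext fun j => ?_)) rfl
        show p.1.1 i j + T p.2 i j + T p.2 i j = _
        linear_combination T p.2 i j * (CharTwo.two_eq_zero (R := F)) }
  rw [Nat.card_congr e, Nat.card_prod, Nat.card_fun, Nat.card_congr (Sym2.lift (α := κ) (β := F)), Nat.card_fun,
    Nat.card_eq_fintype_card (α := κ), Module.natCard_eq_pow_finrank (K := F) (V := K), Nat.card_eq_fintype_card
      (α := Sym2 κ), Sym2.card, ← pow_mul, ← pow_add, mul_comm (finrank F K)]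

omit [DecidableEq κ] hz hG in
theorem frame_gram {x : κ → V} (hA : B.IsAlt) (hx : ∀ i j, B (x i) (x j) = 0)
    {k : ℕ} {y : Fin k ⊕ Fin k → kerPerp B N x} (hy : ∀ i j, B (y i : V) (y j : V) = Matrix.J (Fin k) F i j)
    {a b : (κ ⊕ κ) ⊕ (Fin k ⊕ Fin k)} :
    B (Sum.elim (Sum.elim x fun i => N (x i)) (fun i => (y i : V)) a)
      (Sum.elim (Sum.elim x fun i => N (x i)) (fun i => (y i : V)) b) =
    Sum.elim
      (fun c => Sum.elim (fun d => Sum.elim (fun i => Sum.elim (fun _ => 0) (fun j => B (x i) (N (x j))) d)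
        (fun i => Sum.elim (fun j => B (x i) (N (x j))) (fun _ => 0) d) c) (fun _ => 0) b)
      (fun c => Sum.elim (fun _ => 0) (fun d => Matrix.J (Fin k) F c d) b) a := by
  have h1 : ∀ i l, B (x i) (y l : V) = 0 ∧ B (y l : V) (x i) = 0 := fun i l => by
    have h := (mem_kerPerp.1 (y l).2).2 i
    exact ⟨h, by rw [AltForm.swap hA, h, neg_zero]⟩
  have h2 : ∀ i l, B (N (x i)) (y l : V) = 0 ∧ B (y l : V) (N (x i)) = 0 := fun i l =>
    range_ker_orth hN ⟨_, rfl⟩ (mem_kerPerp.1 (y l).2).1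
  rcases a with (i | i) | l <;> rcases b with (j | j) | l' <;>
    simp only [Sum.elim_inl, Sum.elim_inr, hx, hy, (h1 _ _).1, (h1 _ _).2, (h2 _ _).1, (h2 _ _).2]
  · exact hN.adj _ _
  · exact (range_ker_orth hN ⟨_, rfl⟩ (hN.sq _)).1

omit hz in
/-- The centraliser corresponds to adapted bases. -/
theorem card_centralizer (hA : B.IsAlt) (hB : B.Nondegenerate) {k : ℕ}
    (hd : finrank F V = 2 * Fintype.card κ + 2 * k) {x₀ : κ → V} (hx₀ : ∀ i j, B (x₀ i) (N (x₀ j)) = G i j)
    (hx₀' : ∀ i j, B (x₀ i) (x₀ j) = 0) :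
    Nat.card {g : AltForm.isoGroup B // ∀ v, g.1 (N v) = N (g.1 v)} =
      Nat.card {x : κ → V // (∀ i j, B (x i) (N (x j)) = G i j) ∧ ∀ i j, B (x i) (x j) = 0} *
        spOrd (Nat.card F) k := by
  classical
  haveI : Finite V := Module.finite_of_finite F
  let Fr := {x : κ → V // (∀ i j, B (x i) (N (x j)) = G i j) ∧ ∀ i j, B (x i) (x j) = 0}
  let Sb : Fr → Type v := fun x =>
    {y : Fin k ⊕ Fin k → kerPerp B N x.1 // ∀ i j, B (y i : V) (y j : V) = Matrix.J (Fin k) F i j}
  have hSb : ∀ x : Fr, Nat.card (Sb x) = spOrd (Nat.card F) k := fun x => by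
    refine card_symplectic_bases (B := B.restrict (kerPerp B N x.1)) (fun a => hA a.1) (fun a ha => Subtype.ext
      (kerPerp_nondeg hN hG x.2.1 hr hA hB a.2 fun b hb => ha ⟨b, hb⟩)) ?_
    have := finrank_kerPerp hN hG x.2.1 hr
    omega
  haveI : Fintype Fr := Fintype.ofFinite Fr
  have hcard : Nat.card (Σ x : Fr, Sb x) = Nat.card Fr * spOrd (Nat.card F) k := by
    rw [Nat.card_sigma, Finset.sum_congr rfl fun x _ => hSb x, Finset.sum_const, Finset.card_univ, smul_eq_mul,
      ← Nat.card_eq_fintype_card]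
  rw [← hcard]
  obtain ⟨y₀, hy₀⟩ : ∃ y : Fin k ⊕ Fin k → kerPerp B N x₀, ∀ i j, B (y i : V) (y j : V) = Matrix.J (Fin k) F i j := by
    have h := spOrd_pos (Finite.one_lt_card (α := F)) k
    rw [← hSb ⟨x₀, hx₀, hx₀'⟩] at h
    obtain ⟨⟨y, hy⟩⟩ := (Nat.card_pos_iff.1 h).1
    exact ⟨y, hy⟩
  let fam : ∀ x : κ → V, (Fin k ⊕ Fin k → kerPerp B N x) → (κ ⊕ κ) ⊕ (Fin k ⊕ Fin k) → V := fun x y =>
    Sum.elim (Sum.elim x fun i => N (x i)) fun i => (y i : V)
  have hgram : ∀ (x : Fr) (y : Sb x) a b, B (fam x.1 y.1 a) (fam x.1 y.1 b) = B (fam x₀ y₀ a) (fam x₀ y₀ b) :=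
    fun x y a b => by
      simp only [fam]
      rw [frame_gram hN hr hA x.2.2 y.2, frame_gram hN hr hA hx₀' hy₀]
      simp only [x.2.1, hx₀]
  have hli : LinearIndependent F (fam x₀ y₀) := by
    rw [Fintype.linearIndependent_iff]
    intro c hc
    simp only [Fintype.sum_sum_type, fam, Sum.elim_inl, Sum.elim_inr] at hc
    have hp : ∀ u, B u ((∑ i, c (.inl (.inl i)) • x₀ i + ∑ i, c (.inl (.inr i)) • N (x₀ i)) +
        (∑ i, c (.inr (.inl i)) • (y₀ (.inl i) : V) + ∑ i, c (.inr (.inr i)) • (y₀ (.inr i) : V))) = 0 := fun u => by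
      rw [hc, map_zero]
    have hG0 : ∀ d : κ → F, (∀ i, ∑ j, d j * G i j = 0) → ∀ j, d j = 0 := fun d hd j => by
      have h : G.mulVec d = 0 := funext fun i => by simpa [Matrix.mulVec, dotProduct, mul_comm] using hd i
      have h1 := congrArg (fun w => G⁻¹.mulVec w) h
      simp only [Matrix.mulVec_mulVec, Matrix.nonsing_inv_mul _ hG, Matrix.one_mulVec, Matrix.mulVec_zero] at h1
      exact congrFun h1 j
    have g1 : ∀ i l, B (x₀ i) (y₀ l : V) = 0 := fun i l => (mem_kerPerp.1 (y₀ l).2).2 i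
    have g1' : ∀ i l, B (y₀ l : V) (x₀ i) = 0 := fun i l => by rw [AltForm.swap hA, g1, neg_zero]
    have g2 : ∀ i l, B (N (x₀ i)) (y₀ l : V) = 0 ∧ B (y₀ l : V) (N (x₀ i)) = 0 := fun i l =>
      range_ker_orth hN ⟨_, rfl⟩ (mem_kerPerp.1 (y₀ l).2).1
    have ca : ∀ i, c (.inl (.inr i)) = 0 := hG0 (fun i => c (.inl (.inr i))) fun i => by
      have h := hp (x₀ i)
      simpa [map_sum, hx₀, hx₀', g1] using h
    have cb : ∀ i, c (.inl (.inl i)) = 0 := hG0 (fun i => c (.inl (.inl i))) fun i => by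
      have h := hp (N (x₀ i))
      have hNN : ∀ j, B (N (x₀ i)) (N (x₀ j)) = 0 := fun j => by rw [hN.adj, hN.sq, map_zero]
      simpa [map_sum, hN.adj (x₀ i) (x₀ _), hx₀, hNN, (g2 _ _).1] using h
    have cy : LinearIndependent F y₀ :=
      indep_of_gram (B := B.restrict _) (Matrix.isUnit_det_J (Fin k) F) hy₀
    have hy : (∑ l, c (.inr l) • y₀ l) = 0 := Subtype.ext (by
      simp only [ca, cb, zero_smul, Finset.sum_const_zero, zero_add] at hc
      simpa [Fintype.sum_sum_type] using hc)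
    rintro ((i | i) | l)
    exacts [cb i, ca i, Fintype.linearIndependent_iff.1 cy _ hy l]
  have hsp := hli.span_eq_top_of_card_eq_finrank' (by simp [hd]; omega)
  let b := Basis.mk hli hsp.ge
  have hb : ∀ a, b a = fam x₀ y₀ a := fun a => by simp [b]
  let f : {g : AltForm.isoGroup B // ∀ v, g.1 (N v) = N (g.1 v)} → Σ x : Fr, Sb x := fun g =>
    ⟨⟨fun i => g.1.1 (x₀ i), fun i j => by rw [← g.2, g.1.2, hx₀], fun i j => by rw [g.1.2, hx₀']⟩,
      ⟨fun l => ⟨g.1.1 (y₀ l : V), mem_kerPerp.2 ⟨by rw [← g.2, (mem_kerPerp.1 (y₀ l).2).1, map_zero],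
        fun i => by rw [g.1.2, (mem_kerPerp.1 (y₀ l).2).2]⟩⟩, fun i j => by rw [g.1.2, hy₀]⟩⟩
  have hf : ∀ (g : {g : AltForm.isoGroup B // ∀ v, g.1 (N v) = N (g.1 v)}) a,
      fam (f g).1.1 (f g).2.1 a = g.1.1 (b a) := fun g a => by
    rw [hb]
    rcases a with (i | i) | l
    · rfl
    · exact (g.2 _).symm
    · rfl
  have hfam : ∀ p q : (Σ x : Fr, Sb x), fam p.1.1 p.2.1 = fam q.1.1 q.2.1 → p = q := by
    rintro ⟨⟨x, hx⟩, ⟨y, hy⟩⟩ ⟨⟨x', hx'⟩, ⟨y', hy'⟩⟩ e
    obtain rfl : x = x' := funext fun i => congrFun e (.inl (.inl i))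
    obtain rfl : y = y' := funext fun l => Subtype.ext (congrFun e (.inr l))
    rfl
  refine Nat.card_congr (Equiv.ofBijective f ⟨fun g h e => ?_, fun ⟨x, y⟩ => ?_⟩)
  · refine Subtype.ext (Subtype.ext (LinearEquiv.toLinearMap_injective (b.ext fun a => ?_)))
    show g.1.1 (b a) = h.1.1 (b a)
    rw [← hf, ← hf, e]
  · let g : V →ₗ[F] V := b.constr F (fam x.1 y.1)
    have hg : ∀ a, g (b a) = fam x.1 y.1 a := fun a => Basis.constr_basis _ _ _ a
    have hiso : B.compl₁₂ g g = B := by
      refine LinearMap.ext_basis b b fun i j => ?_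
      simp only [LinearMap.compl₁₂_apply, hg]
      rw [hgram x y, hb, hb]
    have hinj : Function.Injective g := (injective_iff_map_eq_zero g).2 fun v hv => hB.1 v fun w => by
      rw [← LinearMap.congr_fun (LinearMap.congr_fun hiso v) w, LinearMap.compl₁₂_apply, hv, map_zero,
        LinearMap.zero_apply]
    have hcomm : g.comp N = N.comp g := b.ext fun a => by
      simp only [LinearMap.comp_apply]
      rw [hg]
      rcases a with (i | i) | l
      · rw [hb]
        show g (N (x₀ i)) = N (x.1 i)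
        rw [show N (x₀ i) = b (.inl (.inr i)) from (hb (.inl (.inr i))).symm, hg]
        rfl
      · rw [hb]
        show g (N (N (x₀ i))) = N (N (x.1 i))
        rw [hN.sq, hN.sq, map_zero]
      · rw [hb]
        show g (N (y₀ l : V)) = N (y.1 l : V)
        rw [(mem_kerPerp.1 (y₀ l).2).1, (mem_kerPerp.1 (y.1 l).2).1, map_zero]
    let ge := LinearEquiv.ofInjectiveEndo g hinj
    refine ⟨⟨⟨ge, fun u v => LinearMap.congr_fun (LinearMap.congr_fun hiso u) v⟩,
      fun v => LinearMap.congr_fun hcomm v⟩, hfam _ _ (funext fun a => ?_)⟩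
    rw [hf]
    exact hg a

end Cfsg.Agent.InvCent
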