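/-
Centraliser orders of involutions of symplectic groups in characteristic two.
-/
import Cfsg.Agent.Lib.Orthogonal.CharTwoInv.SpCount

set_option autoImplicit false

universe u v

namespace Cfsg.Agent.InvCent

open Module
open LinearMap (BilinForm)
open Cfsg.Agent.SpInv (IsNil)

variable {F : Type u} [Field F] [Finite F] [CharP F 2] {V : Type v} [AddCommGroup V] [Module F V]
  [FiniteDimensional F V] {B : BilinForm F V} {N : V →ₗ[F] V}
  (hA : B.IsAlt) (hB : B.Nondegenerate) (hN : IsNil B N)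
include hA hB hN

/-- Reduction to bases of the form on a complement of the kernel. -/
theorem card_centralizer_le {κ : Type} [Fintype κ] [DecidableEq κ] {G : Matrix κ κ F} (hG : IsUnit G.det)
    (hr : Fintype.card κ = finrank F (LinearMap.range N)) {m : ℕ} (hm : finrank F V = 2 * m)
    {z₀ : κ → V} (hz₀ : ∀ i j, B (z₀ i) (N (z₀ j)) = G i j) {W₀ : Submodule F V}
    (hW : IsCompl W₀ (LinearMap.ker N)) :
    Fintype.card κ ≤ m ∧ Nat.card {g : AltForm.isoGroup B // ∀ v, g.1 (N v) = N (g.1 v)} =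
      Nat.card {z : κ → W₀ // ∀ i j, B (z i : V) (N (z j : V)) = G i j} *
        Nat.card F ^ ((Fintype.card κ + 1).choose 2 + Fintype.card κ * (2 * (m - Fintype.card κ))) *
        spOrd (Nat.card F) (m - Fintype.card κ) := by
  classical
  haveI : Finite V := Module.finite_of_finite F
  have hk := finrank_kerPerp hN hG hz₀ hr
  have hle : Fintype.card κ ≤ m := by omega
  obtain ⟨x₀, hx₀, hx₀'⟩ := SpInv.exists_adapted hA hN G hG z₀ hz₀
  refine ⟨hle, ?_⟩
  rw [card_centralizer hN hG hr hA hB (k := m - Fintype.card κ) (by omega) hx₀ hx₀']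
  congr 1
  let π := Submodule.prodEquivOfIsCompl W₀ (LinearMap.ker N) hW
  have hπ : ∀ p : W₀ × LinearMap.ker N, π p = (p.1 : V) + p.2 := fun p => rfl
  have hsplit : ∀ (p q : W₀ × LinearMap.ker N), B (π p) (N (π q)) = B (p.1 : V) (N (q.1 : V)) := fun p q => by
    rw [hπ, hπ, map_add N, LinearMap.mem_ker.1 q.2.2, add_zero, map_add, LinearMap.add_apply,
      ← hN.adj (p.2 : V), LinearMap.mem_ker.1 p.2.2, map_zero, LinearMap.zero_apply, add_zero]
  let Z := {z : κ → W₀ // ∀ i j, B (z i : V) (N (z j : V)) = G i j}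
  let fib : Z → Type v := fun z =>
    {k : κ → LinearMap.ker N // ∀ i j, B ((z.1 i : V) + (k i : V)) ((z.1 j : V) + (k j : V)) = 0}
  let e : {x : κ → V // (∀ i j, B (x i) (N (x j)) = G i j) ∧ ∀ i j, B (x i) (x j) = 0} ≃ Σ z : Z, fib z :=
    { toFun := fun x => ⟨⟨fun i => (π.symm (x.1 i)).1, fun i j => by
          rw [← hsplit, π.apply_symm_apply, π.apply_symm_apply, x.2.1]⟩,
        ⟨fun i => (π.symm (x.1 i)).2, fun i j => by
          rw [← hπ, ← hπ, π.apply_symm_apply, π.apply_symm_apply, x.2.2]⟩⟩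
      invFun := fun p => ⟨fun i => π (p.1.1 i, p.2.1 i),
        ⟨fun i j => by rw [hsplit, p.1.2], fun i j => p.2.2 i j⟩⟩
      left_inv := fun x => Subtype.ext (funext fun i => π.apply_symm_apply (x.1 i))
      right_inv := fun p => by
        obtain ⟨⟨z, hz⟩, ⟨k, hk⟩⟩ := p
        have h : ∀ i, π.symm (π (z i, k i)) = (z i, k i) := fun i => π.symm_apply_apply _
        exact Sigma.subtype_ext (Subtype.ext (funext fun i => congrArg Prod.fst (h i)))
          (funext fun i => congrArg Prod.snd (h i)) }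
  haveI : Fintype Z := Fintype.ofFinite Z
  have hfib : ∀ z : Z, Nat.card (fib z) =
      Nat.card F ^ ((Fintype.card κ + 1).choose 2 + Fintype.card κ * (2 * (m - Fintype.card κ))) := fun z => by
    rw [card_fibre hN hG (z := fun i => (z.1 i : V)) z.2 hr hA]
    have := finrank_kerPerp hN hG (z := fun i => (z.1 i : V)) z.2 hr
    congr 3
    omega
  rw [Nat.card_congr e, Nat.card_sigma, Finset.sum_congr rfl fun z _ => hfib z, Finset.sum_const, Finset.card_univ,
    smul_eq_mul, ← Nat.card_eq_fintype_card]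

omit [Finite F] [CharP F 2] hA in
theorem compl_facts {W₀ : Submodule F V} (hW : IsCompl W₀ (LinearMap.ker N)) :
    finrank F W₀ = finrank F (LinearMap.range N) ∧
    (∀ a : W₀, (∀ b : W₀, B (a : V) (N b) = 0) → a = 0) ∧ ∀ v, ∃ w : W₀, N w = N v := by
  have hdec : ∀ v, ∃ w : W₀, N w = N v := fun v => by
    obtain ⟨w, hw, k, hk, rfl⟩ := Submodule.mem_sup.1 (show v ∈ W₀ ⊔ LinearMap.ker N by rw [hW.sup_eq_top]; trivial)
    exact ⟨⟨w, hw⟩, by rw [map_add, LinearMap.mem_ker.1 hk, add_zero]⟩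
  refine ⟨?_, fun a ha => ?_, hdec⟩
  · have h1 := Submodule.finrank_add_eq_of_isCompl hW
    have h2 := LinearMap.finrank_range_add_finrank_ker N
    omega
  · have h : N a.1 = 0 := hB.1 _ fun v => by
      obtain ⟨w, hw⟩ := hdec v
      rw [hN.adj, ← hw, ha]
    exact Subtype.ext ((Submodule.disjoint_def.1 hW.disjoint) a.1 a.2 h)

/-- The alternate case. -/
theorem card_cent_alt {m : ℕ} (hm : finrank F V = 2 * m) (halt : ∀ v, B v (N v) = 0) :
    ∃ j, finrank F (LinearMap.range N) = 2 * j ∧ 2 * j ≤ m ∧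
      Nat.card {g : AltForm.isoGroup B // ∀ v, g.1 (N v) = N (g.1 v)} =
        spOrd (Nat.card F) j * Nat.card F ^ ((2 * j + 1).choose 2 + 2 * j * (2 * (m - 2 * j))) *
          spOrd (Nat.card F) (m - 2 * j) := by
  obtain ⟨j, z, hj, hz⟩ := (SpInv.exists_normal hA hB hN).2 halt
  obtain ⟨W₀, hW⟩ := Submodule.exists_isCompl (LinearMap.ker N)
  obtain ⟨hd, hnd, -⟩ := compl_facts hB hN hW.symm
  have hc : Fintype.card (Fin j ⊕ Fin j) = 2 * j := by simp [two_mul]
  obtain ⟨hle, hcard⟩ := card_centralizer_le hA hB hN (Matrix.isUnit_det_J (Fin j) F) (hc.trans hj.symm) hm hz hW.symm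
  rw [hc] at hle hcard
  refine ⟨j, hj, hle, ?_⟩
  rw [hcard]
  congr 2
  exact card_symplectic_bases (B := B.compl₁₂ W₀.subtype (N.comp W₀.subtype)) (fun a => halt a.1) hnd
    (hd.trans hj)

/-- The non-alternate case. -/
theorem card_cent_nonalt {m : ℕ} (hm : finrank F V = 2 * m) (hna : ∃ v, B v (N v) ≠ 0) :
    finrank F (LinearMap.range N) ≤ m ∧
      Nat.card {g : AltForm.isoGroup B // ∀ v, g.1 (N v) = N (g.1 v)} =
        onCount (Nat.card F) (finrank F (LinearMap.range N)) *
          Nat.card F ^ ((finrank F (LinearMap.range N) + 1).choose 2 +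
            finrank F (LinearMap.range N) * (2 * (m - finrank F (LinearMap.range N)))) *
          spOrd (Nat.card F) (m - finrank F (LinearMap.range N)) := by
  classical
  obtain ⟨W₀, hW⟩ := Submodule.exists_isCompl (LinearMap.ker N)
  obtain ⟨hd, hnd, hdec⟩ := compl_facts hB hN hW.symm
  obtain ⟨v, hv⟩ := hna
  obtain ⟨w, hw⟩ := hdec v
  let β : BilinForm F W₀ := B.compl₁₂ W₀.subtype (N.comp W₀.subtype)
  have hsym : ∀ a b, β a b = β b a := fun a b => SpInv.beta_symm hA hN _ _
  obtain ⟨z, hz⟩ := SpInv.exists_orthonormal _ β hsym hnd hd (fun _ => ⟨w, by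
    show B (w : V) (N w) ≠ 0
    rwa [hw, SpInv.beta_symm hA hN, hw]⟩)
  generalize hs : finrank F (LinearMap.range N) = s at hd z hz ⊢
  obtain ⟨hle, hcard⟩ := card_centralizer_le hA hB hN (G := (1 : Matrix (Fin s) (Fin s) F)) (by simp)
    (by rw [Fintype.card_fin, hs]) hm (z₀ := fun i => (z i : V))
    (fun i j => (hz i j).trans Matrix.one_apply.symm) hW.symm
  rw [Fintype.card_fin] at hle hcard
  refine ⟨hle, ?_⟩
  rw [hcard]
  congr 2
  rw [← card_orthonormal s β hsym hnd hd z hz]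
  simp only [Matrix.one_apply]
  rfl

end Cfsg.Agent.InvCent
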