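/-
Centralisers of involutions in the matrix symplectic group, characteristic two.
-/
import Cfsg.Agent.Lib.Orthogonal.CharTwoInv.SpCent

set_option autoImplicit false

namespace Cfsg.Agent.InvCent

open Matrix Module ClassicalSp

variable {F : Type*} [Field F] [Finite F] [CharP F 2] {m : ℕ}

local notation "VV" => (Fin m ⊕ Fin m → F)

omit [Finite F] [CharP F 2] in
theorem cent_congr (t : symplecticGroup (Fin m) F) :
    Nat.card ↥(Subgroup.centralizer ({t} : Set ↥(symplecticGroup (Fin m) F))) =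
      Nat.card {g : AltForm.isoGroup (spBilin m F) // ∀ v, g.1 (SpInv.nilPart t v) = SpInv.nilPart t (g.1 v)} := by
  refine Nat.card_congr ((spEquiv (m := m) (F := F)).toEquiv.subtypeEquiv fun A => ?_)
  show A ∈ Subgroup.centralizer _ ↔ _
  rw [Subgroup.mem_centralizer_iff]
  simp only [Set.mem_singleton_iff, forall_eq, MulEquiv.toEquiv_eq_coe, MulEquiv.coe_toEquiv]
  constructor
  · intro h v
    rw [spEquiv_apply, spEquiv_apply, SpInv.nilPart_apply, SpInv.nilPart_apply, Matrix.mulVec_sub, Matrix.mulVec_mulVec,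
      Matrix.mulVec_mulVec, ← Submonoid.coe_mul, ← Submonoid.coe_mul, h]
  · intro h
    refine Subtype.ext (Matrix.ext_of_mulVec_single fun i => ?_)
    have h1 := h (Pi.single i 1)
    rw [spEquiv_apply, spEquiv_apply, SpInv.nilPart_apply, SpInv.nilPart_apply, Matrix.mulVec_sub, sub_left_inj,
      Matrix.mulVec_mulVec, Matrix.mulVec_mulVec] at h1
    rw [Submonoid.coe_mul, Submonoid.coe_mul]
    exact h1.symm

omit [Finite F] in
theorem alt_iff (t : symplecticGroup (Fin m) F) (v : VV) :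
    spBilin m F v (SpInv.nilPart t v) = Cfsg.sympForm m F v ((t : Matrix (Fin m ⊕ Fin m) (Fin m ⊕ Fin m) F) *ᵥ v) := by
  rw [SpInv.nilPart_apply, map_sub, (spBilin_isAlt (m := m) (F := F)).self_eq_zero v, sub_zero, spBilin_apply]

theorem alt_even_rank (t : symplecticGroup (Fin m) F) (ht : t ^ 2 = 1)
    (halt : ∀ v, spBilin m F v (SpInv.nilPart t v) = 0) :
    Even ((t : Matrix (Fin m ⊕ Fin m) (Fin m ⊕ Fin m) F) - 1).rank := by
  obtain ⟨j, z, hj, -⟩ := (SpInv.exists_normal spBilin_isAlt spBilin_nondeg (SpInv.nilPart_isNil t ht)).2 halt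
  exact ⟨j, by show finrank F (LinearMap.range (SpInv.nilPart t)) = _; omega⟩

theorem card_centralizer_alt (t : symplecticGroup (Fin m) F) (ht : t ^ 2 = 1) {j : ℕ}
    (hs : ((t : Matrix (Fin m ⊕ Fin m) (Fin m ⊕ Fin m) F) - 1).rank = 2 * j)
    (halt : ∀ v, spBilin m F v (SpInv.nilPart t v) = 0) :
    2 * j ≤ m ∧ Nat.card ↥(Subgroup.centralizer ({t} : Set ↥(symplecticGroup (Fin m) F))) =
      spOrd (Nat.card F) j * Nat.card F ^ ((2 * j + 1).choose 2 + 2 * j * (2 * (m - 2 * j))) *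
        spOrd (Nat.card F) (m - 2 * j) := by
  obtain ⟨j', hj, hle, hcard⟩ := card_cent_alt spBilin_isAlt spBilin_nondeg (SpInv.nilPart_isNil t ht)
    (m := m) finrank_space halt
  obtain rfl : j' = j := by
    change finrank F (LinearMap.range (SpInv.nilPart t)) = 2 * j at hs
    omega
  exact ⟨hle, by rw [cent_congr, hcard]⟩

theorem card_centralizer_nonalt (t : symplecticGroup (Fin m) F) (ht : t ^ 2 = 1) {s : ℕ}
    (hs : ((t : Matrix (Fin m ⊕ Fin m) (Fin m ⊕ Fin m) F) - 1).rank = s)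
    (hna : ∃ v, spBilin m F v (SpInv.nilPart t v) ≠ 0) :
    1 ≤ s ∧ s ≤ m ∧ Nat.card ↥(Subgroup.centralizer ({t} : Set ↥(symplecticGroup (Fin m) F))) =
      onCount (Nat.card F) s * Nat.card F ^ ((s + 1).choose 2 + s * (2 * (m - s))) *
        spOrd (Nat.card F) (m - s) := by
  obtain ⟨hle, hcard⟩ := card_cent_nonalt spBilin_isAlt spBilin_nondeg (SpInv.nilPart_isNil t ht)
    (m := m) finrank_space hna
  change finrank F (LinearMap.range (SpInv.nilPart t)) = s at hs
  rw [hs] at hle hcard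
  refine ⟨?_, hle, by rw [cent_congr, hcard]⟩
  by_contra h
  obtain ⟨v, hv⟩ := hna
  have hbot := Submodule.finrank_eq_zero.1 (show finrank F (LinearMap.range (SpInv.nilPart t)) = 0 by omega)
  exact hv (by rw [show SpInv.nilPart t v = 0 from (Submodule.mem_bot F).1 (hbot ▸ ⟨v, rfl⟩), map_zero])

theorem exp_arith {m s : ℕ} (hs : s ≤ m) :
    (s + 1).choose 2 + s * (2 * (m - s)) = 2 * m * s - (3 * s ^ 2 - s) / 2 := by
  have hT : 2 * (s + 1).choose 2 = s * s + s := by
    rw [Nat.choose_two_right, Nat.add_sub_cancel, Nat.mul_div_cancel' (by rw [mul_comm]; exact (Nat.even_mul_succ_self s).two_dvd)]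
    ring
  obtain ⟨d, rfl⟩ := Nat.exists_eq_add_of_le hs
  rw [Nat.add_sub_cancel_left, show 2 * (s + d) * s = 2 * (s * s) + s * (2 * d) by ring, pow_two]
  have := Nat.le_mul_self s
  omega

theorem exp_arith_even {m s : ℕ} (hs : s ≤ m) (h1 : 1 ≤ s) :
    s - 1 + ((s + 1).choose 2 + s * (2 * (m - s))) = 2 * m * s - (3 * s ^ 2 - 3 * s) / 2 - 1 := by
  have hT : 2 * (s + 1).choose 2 = s * s + s := by
    rw [Nat.choose_two_right, Nat.add_sub_cancel, Nat.mul_div_cancel' (by rw [mul_comm]; exact (Nat.even_mul_succ_self s).two_dvd)]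
    ring
  obtain ⟨d, rfl⟩ := Nat.exists_eq_add_of_le hs
  rw [Nat.add_sub_cancel_left, show 2 * (s + d) * s = 2 * (s * s) + s * (2 * d) by ring, pow_two]
  have := Nat.le_mul_self s
  omega

end Cfsg.Agent.InvCent
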