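/-
Centralisers in Ω⁺ of involutions of O⁺, characteristic two.
-/
import Cfsg.Agent.Lib.Orthogonal.CharTwoInv.SpMatrix
import Cfsg.Agent.Lib.Orthogonal.CharTwoInv.OrbitCount
import Cfsg.Agent.Lib.Orthogonal.CharTwoInv.Std

set_option autoImplicit false

namespace Cfsg.Agent.InvCent

open QuadraticMap Module Cfsg.Agent.Orth Cfsg.Agent.OrthInv2 Matrix

variable {F : Type*} [Field F] [Fintype F] [CharP F 2] {ι : Type} [Fintype ι] [DecidableEq ι]
  {Q : QuadraticForm F (ι → F)}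

set_option quotPrecheck false in
local notation "OQ" => Cfsg.isometryGroup F (⇑Q)

theorem comm_iff (x g : OQ) :
    g * x = x * g ↔ ∀ v, (isoEquiv Q g).1 (nilOf x v) = nilOf x ((isoEquiv Q g).1 v) := by
  refine ⟨intertwine, fun h => (isoEquiv Q).injective (Subtype.ext (LinearEquiv.ext fun v => ?_))⟩
  simp only [map_mul, Subgroup.coe_mul, LinearEquiv.mul_apply, act_eq x, map_add, h]

theorem cent_equiv (x : OQ) :
    Nat.card {g : OQ // g * x = x * g} =
      Nat.card {g : oGroup Q // ∀ v, g.1 (nilOf x v) = nilOf x (g.1 v)} :=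
  Nat.card_congr ((isoEquiv Q).toEquiv.subtypeEquiv fun g => comm_iff x g)

theorem cent_omega_all (x : OQ) (h : ∀ g : OQ, g * x = x * g → g ∈ Cfsg.Omega F (⇑Q)) :
    Nat.card {g : ↥(Cfsg.Omega F (⇑Q)) // g.1 * x = x * g.1} = Nat.card {g : OQ // g * x = x * g} :=
  Nat.card_congr
    { toFun := fun g => ⟨g.1.1, g.2⟩
      invFun := fun g => ⟨⟨g.1, h g.1 g.2⟩, g.2⟩ }

theorem fixed_orth (x : OQ) (v a : ι → F) (hfix : nilOf x a = 0) : polar Q (nilOf x v) a = 0 := by
  have h := b_map (isoEquiv Q x).2 v a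
  rw [act_eq, act_eq, hfix, add_zero, b_add_left, add_eq_left] at h
  exact h

variable (hQ : (polarBilin Q).Nondegenerate) (hn : 2 ≤ Fintype.card ι)
  (hne : Fintype.card F ≠ 2 ∨ Fintype.card ι ≠ 4)
include hQ hn hne

theorem cent_omega_half (x : OQ) {a : ι → F} (ha : Q a ≠ 0) (hfix : nilOf x a = 0) :
    2 * Nat.card {g : ↥(Cfsg.Omega F (⇑Q)) // g.1 * x = x * g.1} = Nat.card {g : OQ // g * x = x * g} := by
  classical
  obtain ⟨r, -, hr⟩ := exists_reflection Q ha
  have hrx : r * x = x * r := (comm_iff x r).2 fun v => by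
    simp only [hr.2, map_sub, map_smul]
    rw [hfix, smul_zero, sub_zero, fixed_orth x v a hfix, zero_div, zero_smul, sub_zero]
  have hnot := refl_not_mem hQ hn hne hr
  have hrr : r * r = 1 := (isoEquiv Q).injective (Subtype.ext (by rw [map_mul, map_one]; exact hr.mul_self))
  let S := {g : ↥(Cfsg.Omega F (⇑Q)) // g.1 * x = x * g.1}
  let f : S ⊕ S → {g : OQ // g * x = x * g} := Sum.elim (fun g => ⟨g.1.1, g.2⟩) fun g => ⟨g.1.1 * r, by
    rw [mul_assoc, hrx, ← mul_assoc, g.2, mul_assoc]⟩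
  have hf : Function.Bijective f := by
    refine ⟨?_, fun g => ?_⟩
    · rintro (g | g) (h | h) e <;> have e' := congrArg Subtype.val e <;>
        simp only [f, Sum.elim_inl, Sum.elim_inr] at e'
      · exact congrArg Sum.inl (Subtype.ext (Subtype.ext e'))
      · exact absurd ((Subgroup.mul_mem_cancel_left _ h.1.2).1 (e' ▸ g.1.2)) hnot
      · exact absurd ((Subgroup.mul_mem_cancel_left _ g.1.2).1 (e' ▸ h.1.2)) hnot
      · exact congrArg Sum.inr (Subtype.ext (Subtype.ext (mul_right_cancel e')))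
    · by_cases hmem : g.1 ∈ Cfsg.Omega F (⇑Q)
      · exact ⟨.inl ⟨⟨g.1, hmem⟩, g.2⟩, rfl⟩
      · refine ⟨.inr ⟨⟨g.1 * r, mul_refl_mem hQ hn hne hr hmem⟩, ?_⟩, Subtype.ext ?_⟩
        · show g.1 * r * x = x * (g.1 * r)
          rw [mul_assoc, hrx, ← mul_assoc, g.2, mul_assoc]
        · show g.1 * r * r = g.1
          rw [mul_assoc, hrr, mul_one]
  rw [← Nat.card_congr (Equiv.ofBijective f hf), Nat.card_sum, two_mul]

theorem cent_omega_stab {n : ℕ} (hV : Fintype.card ι = 2 * n) (x : OQ) (halt : AltInv x) (hr : rk x = n) (g : OQ)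
    (hg : g * x = x * g) : g ∈ Cfsg.Omega F (⇑Q) := by
  have hW : IsMaxSing Q n (LinearMap.range (nilOf x)) := ⟨hr, by rintro _ ⟨v, rfl⟩; exact halt v⟩
  refine (omega_stab hQ hn hne hV hW g).2 ?_
  have hmap : (LinearMap.range (nilOf x)).map ((isoEquiv Q g).1 : (ι → F) →ₗ[F] (ι → F)) =
      LinearMap.range (nilOf x) := by
    ext z
    constructor
    · rintro ⟨_, ⟨v, rfl⟩, rfl⟩
      exact ⟨(isoEquiv Q g).1 v, (intertwine hg v).symm⟩
    · rintro ⟨v, rfl⟩
      refine ⟨nilOf x ((isoEquiv Q g).1.symm v), ⟨_, rfl⟩, ?_⟩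
      show (isoEquiv Q g).1 (nilOf x ((isoEquiv Q g).1.symm v)) = _
      rw [intertwine hg, LinearEquiv.apply_symm_apply]
  rw [hmap, inf_idem, ← rk_eq, hr]
  exact ⟨n, rfl⟩

omit hQ hn hne

variable {m : ℕ} (x : Cfsg.isometryGroup F (⇑(qPlus F m)))

/-- The counting identity between the two centralisers. -/
theorem plus_basic (hx : x * x = 1) :
    Nat.card {g : AltForm.isoGroup (polarBilin (qPlus F m)) // ∀ v, g.1 (nilOf x v) = nilOf x (g.1 v)} =
      Nat.card {g : Cfsg.isometryGroup F (⇑(qPlus F m)) // g * x = x * g} *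
        Nat.card {a : LinearMap.ker (nilOf x) // InAS (qPlus F m (a : Fin m ⊕ Fin m → F))} ∧
      Nat.card (LinearMap.ker (nilOf x)) = Nat.card F ^ (2 * m - rk x) ∧
      Nat.card (Fin m ⊕ Fin m → F) = Nat.card F ^ (2 * m) := by
  have hV : Nat.card (Fin m ⊕ Fin m → F) = Nat.card F ^ (2 * m) := by
    rw [Nat.card_fun, Nat.card_eq_fintype_card (α := Fin m ⊕ Fin m), Fintype.card_sum, Fintype.card_fin, two_mul]
  refine ⟨?_, ?_, hV⟩
  · rw [cent_equiv]
    refine card_symplectic_cent (qPlus_nondeg m) (isInv_nilOf hx) ?_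
    rw [count_qPlus, hV]
    have := Nat.one_le_pow m (Nat.card F) Nat.card_pos
    omega
  · rw [Module.natCard_eq_pow_finrank (K := F)]
    congr 1
    have h := LinearMap.finrank_range_add_finrank_ker (nilOf x)
    rw [Module.finrank_fintype_fun_eq_card, Fintype.card_sum, Fintype.card_fin, ← rk_eq] at h
    omega

theorem plus_hne {s : ℕ} (h : Fintype.card F ≠ 2 ∨ m ≠ 2) (h1 : 1 ≤ s) (h2 : s ≤ m) :
    2 ≤ Fintype.card (Fin m ⊕ Fin m) ∧ (Fintype.card F ≠ 2 ∨ Fintype.card (Fin m ⊕ Fin m) ≠ 4) ∧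
      Fintype.card (Fin m ⊕ Fin m) = 2 * m := by
  simp only [Fintype.card_sum, Fintype.card_fin]
  omega

/-- Non-alternate involutions. -/
theorem plus_nonalt (h : Fintype.card F ≠ 2 ∨ m ≠ 2) (hx : x * x = 1) (hna : ∃ v, qPlus F m (nilOf x v) ≠ 0)
    {s : ℕ} (hs : rk x = s) :
    1 ≤ s ∧ s ≤ m ∧
      Nat.card {g : ↥(Cfsg.Omega F (⇑(qPlus F m))) // g.1 * x = x * g.1} * Nat.card F ^ (2 * m - s) =
        onCount (Nat.card F) s * Nat.card F ^ ((s + 1).choose 2 + s * (2 * (m - s))) * spOrd (Nat.card F) (m - s) := by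
  have hN := isInv_nilOf hx
  have hV : finrank F (Fin m ⊕ Fin m → F) = 2 * m := by
    rw [Module.finrank_fintype_fun_eq_card, Fintype.card_sum, Fintype.card_fin, two_mul]
  obtain ⟨hle, hcard⟩ := card_cent_nonalt (polar_isAlt _) (qPlus_nondeg m) hN.isNil hV
    (by
      obtain ⟨v, hv⟩ := hna
      exact ⟨v, by rw [polarBilin_apply_apply, ← hN.val]; exact hv⟩)
  rw [← rk_eq, hs] at hle hcard
  have h1 : 1 ≤ s := by
    by_contra h0
    have h0' : x = 1 := (eq_one_iff_rk x).2 (by omega)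
    obtain ⟨v, hv⟩ := hna
    exact hv (by rw [nilOf_apply, h0']; simp [isoMat, CharTwo.add_self_eq_zero, self_add])
  obtain ⟨hn, hne, hV'⟩ := plus_hne (F := F) h h1 hle
  obtain ⟨w, hw, hw0⟩ := OrthInv2.exists_fixed (qPlus_nondeg m) hN (n := m) hV (Or.inl hna)
  obtain ⟨hb, hk, -⟩ := plus_basic x hx
  rw [← cent_omega_half (qPlus_nondeg m) hn hne x hw hw0, hcard] at hb
  rw [hs] at hk
  have hP := count_ker_nonalt hN hna
  rw [hk] at hP
  exact ⟨h1, hle, by rw [← hP, hb]; ring⟩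

/-- Alternate involutions. -/
theorem plus_alt (h : Fintype.card F ≠ 2 ∨ m ≠ 2) (hx : x * x = 1) (hx1 : x ≠ 1) (halt : AltInv x)
    {j : ℕ} (hs : rk x = 2 * j) :
    1 ≤ j ∧ 2 * j ≤ m ∧
      Nat.card {g : ↥(Cfsg.Omega F (⇑(qPlus F m))) // g.1 * x = x * g.1} *
          (Nat.card F ^ m * (if 2 * j = m then 1 else Nat.card F ^ (m - 2 * j) + 1)) =
        spOrd (Nat.card F) j * Nat.card F ^ ((2 * j + 1).choose 2 + 2 * j * (2 * (m - 2 * j))) *
          spOrd (Nat.card F) (m - 2 * j) := by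
  have hN := isInv_nilOf hx
  have hV : finrank F (Fin m ⊕ Fin m → F) = 2 * m := by
    rw [Module.finrank_fintype_fun_eq_card, Fintype.card_sum, Fintype.card_fin, two_mul]
  obtain ⟨j', hj', hle, hcard⟩ := card_cent_alt (polar_isAlt _) (qPlus_nondeg m) hN.isNil hV
    (fun v => by rw [polarBilin_apply_apply, ← hN.val]; exact halt v)
  rw [← rk_eq, hs] at hj'
  obtain rfl : j' = j := by omega
  have h1 : 1 ≤ j' := by
    by_contra h0
    exact hx1 ((eq_one_iff_rk x).2 (by omega))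
  obtain ⟨hn, hne, hV'⟩ := plus_hne (F := F) (s := 2 * j') h (by omega) hle
  obtain ⟨hb, hk, hcV⟩ := plus_basic x hx
  rw [hcard] at hb
  rw [hs] at hk
  have hP := count_ker_alt (qPlus_nondeg m) hN halt
  rw [hk, count_qPlus, hcV] at hP
  refine ⟨h1, hle, ?_⟩
  split_ifs with hm
  · rw [← cent_omega_all x fun g hg => cent_omega_stab (qPlus_nondeg m) hn hne hV' x halt (hs.trans hm) g hg] at hb
    rw [show 2 * m - 2 * j' = m by omega] at hP
    rw [hb, mul_one]
    congr 1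
    omega
  · obtain ⟨w, hw, hw0⟩ := OrthInv2.exists_fixed (qPlus_nondeg m) hN (n := m) hV
      (Or.inr (by rw [← rk_eq, hs]; omega))
    rw [← cent_omega_half (qPlus_nondeg m) hn hne x hw hw0] at hb
    rw [hb, mul_assoc 2, mul_left_comm 2]
    congr 1
    rw [mul_add, mul_one, ← pow_add, show m + (m - 2 * j') = 2 * m - 2 * j' by omega]
    omega

theorem half_facts (s : ℕ) : 2 * (s + 1).choose 2 = s * s + s ∧ s ≤ s * s := by
  refine ⟨?_, Nat.le_mul_self s⟩
  rw [Nat.choose_two_right, Nat.add_sub_cancel,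
    Nat.mul_div_cancel' (by rw [mul_comm]; exact (Nat.even_mul_succ_self s).two_dvd)]
  ring

theorem exp_odd {m s : ℕ} (h1 : 1 ≤ s) (hs : s ≤ m) :
    (2 * m * (s - 1) - (3 * s ^ 2 - 3 * s) / 2) + (2 * m - s) = (s + 1).choose 2 + s * (2 * (m - s)) := by
  obtain ⟨hT, ha⟩ := half_facts s
  obtain ⟨d, rfl⟩ := Nat.exists_eq_add_of_le hs
  have hd : d ≤ s * d := Nat.le_mul_of_pos_left d h1
  rw [Nat.add_sub_cancel_left, pow_two, Nat.mul_sub, mul_one,
    show 2 * (s + d) * s = 2 * (s * s) + 2 * (s * d) by ring, show s * (2 * d) = 2 * (s * d) by ring]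
  omega

theorem exp_even {m s : ℕ} (h2 : 2 ≤ s) (hs : s ≤ m) :
    (2 * m * (s - 1) - (3 * s ^ 2 - 5 * s) / 2 - 1) + (2 * m - s) =
      (s - 1) + ((s + 1).choose 2 + s * (2 * (m - s))) := by
  obtain ⟨hT, -⟩ := half_facts s
  have ha : 2 * s ≤ s * s := Nat.mul_le_mul_right s h2
  obtain ⟨d, rfl⟩ := Nat.exists_eq_add_of_le hs
  have hd : 2 * d ≤ s * d := Nat.mul_le_mul_right d h2
  rw [Nat.add_sub_cancel_left, pow_two, Nat.mul_sub, mul_one,
    show 2 * (s + d) * s = 2 * (s * s) + 2 * (s * d) by ring, show s * (2 * d) = 2 * (s * d) by ring]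
  omega

theorem exp_alt {m s : ℕ} (hs : s ≤ m) :
    (2 * m * s - (3 * s ^ 2 + s) / 2) + s = (s + 1).choose 2 + s * (2 * (m - s)) := by
  obtain ⟨hT, ha⟩ := half_facts s
  obtain ⟨d, rfl⟩ := Nat.exists_eq_add_of_le hs
  rw [Nat.add_sub_cancel_left, pow_two,
    show 2 * (s + d) * s = 2 * (s * s) + 2 * (s * d) by ring, show s * (2 * d) = 2 * (s * d) by ring]
  omega

end Cfsg.Agent.InvCent
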